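/-
Linear characters of the index two subgroup that are nontrivial on the odd kernel, and the
invariance that orthogonality to all their twists forces.
-/
import Cfsg.Agent.Lib.GL23Core.Setup
import Mathlib.GroupTheory.Transfer
import Mathlib.GroupTheory.FiniteAbelian.Duality
import Mathlib.RingTheory.RootsOfUnity.AlgebraicallyClosed
import Mathlib.Analysis.Complex.Polynomial.Basic

set_option autoImplicit false
set_option linter.unusedSectionVars false

namespace Cfsg.Agent.GL23Core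

open Cfsg Cfsg.Agent.Char Cfsg.Agent.Coherence Cfsg.Agent.GL23Cent
open scoped ComplexConjugate

/-- Indices of the normal quaternion subgroup. -/
def q8 (k : Fin 48) : Prop := eps k = 1 ∧ mul (mul k k) (mul k k) = k1

instance : DecidablePred q8 := fun k => by unfold q8; infer_instance

theorem q8_mul : ∀ k l : Fin 48, q8 k → q8 l → q8 (mul k l) := by decide +kernel
theorem q8_one : q8 k1 := by decide +kernel
theorem q8_conj : ∀ k l m : Fin 48, q8 k → mul m l = k1 → q8 (mul (mul l k) m) := by decide +kernel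
theorem eps_one_or : ∀ k : Fin 48, eps k = 1 ∨ eps k = -1 := by decide +kernel
theorem exists_three : ∃ s : Fin 48, eps s = 1 ∧ ∀ k, eps k = 1 →
    q8 k ∨ (∃ q, q8 q ∧ k = mul q s) ∨ ∃ q, q8 q ∧ k = mul q (mul s s) := by decide +kernel

variable {G : Type*} [Group G] {t : G} (S : Setup t) [Finite G]

theorem Setup.eps_mul (x y : Cen t) : eps (S.φ (x * y)) = eps (S.φ x) * eps (S.φ y) := by
  rw [S.φ_mul, GL23Cent.eps_mul]

/-- The index two subgroup. -/
def Setup.C0 : Subgroup (Cen t) where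
  carrier := {x | eps (S.φ x) = 1}
  one_mem' := by show eps (S.φ 1) = 1; rw [S.φ_one, eps_k1]
  mul_mem' := fun {x y} hx hy => by
    show eps (S.φ (x * y)) = 1
    rw [S.eps_mul, show eps (S.φ x) = 1 from hx, show eps (S.φ y) = 1 from hy, one_mul]
  inv_mem' := fun {x} hx => by
    show eps (S.φ x⁻¹) = 1
    have h := S.eps_mul x x⁻¹
    rw [mul_inv_cancel, S.φ_one, eps_k1, show eps (S.φ x) = 1 from hx, one_mul] at h
    exact h.symm

theorem Setup.mem_C0 {x : Cen t} : x ∈ S.C0 ↔ eps (S.φ x) = 1 := Iff.rfl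

theorem Setup.ker_le : S.π.ker ≤ S.C0 := fun x hx => by
  rw [S.mem_C0, S.mem_ker_iff.mp hx, eps_k1]

theorem Setup.conj_ker {x o : Cen t} (ho : o ∈ S.π.ker) :
    x * o * x⁻¹ = o ∨ x * o * x⁻¹ = o⁻¹ := by
  by_cases h : eps (S.φ x) = 1
  · exact Or.inl (S.comm x o ho h)
  · exact Or.inr (S.inv x o ho h)

theorem Setup.comm_ker {x o : Cen t} (hx : x ∈ S.C0) (ho : o ∈ S.π.ker) : x * o = o * x :=
  mul_inv_eq_iff_eq_mul.mp (S.comm x o ho hx)

theorem Setup.normal_C0 : S.C0.Normal := ⟨fun x hx y => by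
  rw [S.mem_C0, S.eps_mul, S.eps_mul, show eps (S.φ x) = 1 from hx, mul_one, ← S.eps_mul,
    mul_inv_cancel, S.φ_one, eps_k1]⟩

/-- The preimage of the quaternion subgroup. -/
def Setup.P : Subgroup (Cen t) where
  carrier := {x | q8 (S.φ x)}
  one_mem' := by show q8 (S.φ 1); rw [S.φ_one]; exact q8_one
  mul_mem' := fun {x y} hx hy => by show q8 (S.φ (x * y)); rw [S.φ_mul]; exact q8_mul _ _ hx hy
  inv_mem' := fun {x} hx => by
    show q8 (S.φ x⁻¹)
    have key : ∀ k l : Fin 48, q8 k → mul k l = k1 → q8 l := by decide +kernel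
    exact key _ _ hx (by rw [← S.φ_mul, mul_inv_cancel, S.φ_one])

theorem Setup.P_le : S.P ≤ S.C0 := fun _ hx => hx.1

theorem Setup.pow_eight_ker {x : Cen t} (hx : x ∈ S.P) : x ^ 8 ∈ S.π.ker := by
  rw [S.mem_ker_iff, show x ^ 8 = ((x * x) * (x * x)) * ((x * x) * (x * x)) by
    rw [← sq, ← sq, ← sq, ← pow_mul, ← pow_mul], S.φ_mul, S.φ_mul, S.φ_mul,
    show mul (mul (S.φ x) (S.φ x)) (mul (S.φ x) (S.φ x)) = k1 from hx.2]
  decide +kernel

theorem Setup.card_P : Nat.card S.P ∣ 8 * Nat.card S.π.ker := by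
  classical
  have := Fintype.ofFinite (Cen t)
  have h := S.sum_eq (fun k => if q8 k then (1 : ℕ) else 0)
  have e : Nat.card S.P = ∑ x : Cen t, if q8 (S.φ x) then (1 : ℕ) else 0 := by
    rw [← Finset.card_filter, ← Fintype.card_subtype, ← Nat.card_eq_fintype_card]
    rfl
  rw [e, h, smul_eq_mul, mul_comm,
    show (∑ k : Fin 48, if q8 k then (1 : ℕ) else 0) = 8 by decide +kernel]

theorem Setup.mul_pow_eight {x y : Cen t} (hx : x ∈ S.P) (hy : y ∈ S.P) :
    (x * y) ^ 8 = x ^ 8 * y ^ 8 := by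
  set K := S.π.ker.subgroupOf S.P
  have hK : K ≤ Subgroup.center S.P := fun o ho => Subgroup.mem_center_iff.mpr fun z =>
    Subtype.ext (S.comm_ker (S.P_le z.2) (Subgroup.mem_subgroupOf.mp ho))
  have hKc : Nat.card K = Nat.card S.π.ker :=
    Nat.card_congr (Subgroup.subgroupOfEquivOfLe (fun o ho => by
      show q8 (S.φ o); rw [S.mem_ker_iff.mp ho]; exact q8_one)).toEquiv
  have hd : (Subgroup.center S.P).index ∣ 8 := by
    refine (Subgroup.index_dvd_of_le hK).trans ?_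
    have h := S.card_P
    rw [← K.card_mul_index, hKc, mul_comm 8] at h
    exact Nat.dvd_of_mul_dvd_mul_left Nat.card_pos h
  obtain ⟨k, hk⟩ := hd
  have h := map_mul (MonoidHom.transferCenterPow S.P) ⟨x, hx⟩ ⟨y, hy⟩
  have h' : ((⟨x, hx⟩ : S.P) * ⟨y, hy⟩) ^ (Subgroup.center S.P).index =
      (⟨x, hx⟩ : S.P) ^ (Subgroup.center S.P).index *
        (⟨y, hy⟩ : S.P) ^ (Subgroup.center S.P).index := by
    simpa [MonoidHom.transferCenterPow_apply] using congrArg Subtype.val h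
  have hc : Commute ((⟨x, hx⟩ : S.P) ^ (Subgroup.center S.P).index)
      ((⟨y, hy⟩ : S.P) ^ (Subgroup.center S.P).index) := by
    have := (MonoidHom.transferCenterPow S.P (⟨x, hx⟩ : S.P)).2
    rw [MonoidHom.transferCenterPow_apply, Subgroup.mem_center_iff] at this
    exact (this _).symm
  have := congrArg (· ^ k) h'
  simp only [← pow_mul, hc.mul_pow, ← hk] at this
  simpa using congrArg Subtype.val this

/-- The Sylow `2`-subgroup of `P`. -/
def Setup.Q : Subgroup (Cen t) where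
  carrier := {x | x ∈ S.P ∧ x ^ 8 = 1}
  one_mem' := ⟨one_mem _, one_pow _⟩
  mul_mem' := fun {x y} hx hy => ⟨mul_mem hx.1 hy.1, by
    rw [S.mul_pow_eight hx.1 hy.1, hx.2, hy.2, one_mul]⟩
  inv_mem' := fun {x} hx => ⟨inv_mem hx.1, by rw [inv_pow, hx.2, inv_one]⟩

theorem Setup.Q_le : S.Q ≤ S.C0 := fun _ hx => S.P_le hx.1

theorem Setup.normal_Q : S.Q.Normal := ⟨fun x hx y => ⟨by
    show q8 (S.φ (y * x * y⁻¹))
    rw [S.φ_mul, S.φ_mul]
    exact q8_conj _ _ _ hx.1 (by rw [← S.φ_mul, inv_mul_cancel, S.φ_one]),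
  by rw [conj_pow, hx.2, mul_one, mul_inv_cancel]⟩⟩

theorem Setup.exists_Q {x : Cen t} (hx : x ∈ S.P) :
    ∃ q ∈ S.Q, ∃ o ∈ S.π.ker, x = q * o := by
  have hcop : Nat.Coprime 8 (Nat.card S.π.ker) := by
    rw [show (8 : ℕ) = 2 ^ 3 from rfl]
    exact Nat.Coprime.pow_left _ (Nat.coprime_two_left.mpr S.odd)
  obtain ⟨N, hN8, hNm⟩ := Nat.chineseRemainder hcop 1 0
  obtain ⟨b, hb⟩ : Nat.card S.π.ker ∣ N := Nat.modEq_zero_iff_dvd.mp hNm
  have h8 : x ^ (8 * N) = 1 := by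
    rw [pow_mul, hb, pow_mul]
    have := congrArg Subtype.val (pow_card_eq_one' (x := (⟨x ^ 8, S.pow_eight_ker hx⟩ : S.π.ker)))
    simp only [SubgroupClass.coe_pow, OneMemClass.coe_one] at this
    rw [this, one_pow]
  refine ⟨x ^ N, ⟨pow_mem hx _, by rw [← pow_mul, mul_comm, h8]⟩, (x ^ N)⁻¹ * x, ?_, by group⟩
  have hq : (S.π x) ^ 4 = 1 := tab.eq_one_iff.mp (by
    rw [← map_pow]
    show S.φ (x ^ 4) = k1
    rw [show x ^ 4 = (x * x) * (x * x) by rw [← sq, ← sq, ← pow_mul], S.φ_mul, S.φ_mul]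
    exact hx.2)
  obtain ⟨a, ha⟩ : ∃ a, N = 8 * a + 1 := ⟨N / 8, by have : N % 8 = 1 := hN8; omega⟩
  rw [MonoidHom.mem_ker, map_mul, map_inv, map_pow, ha, pow_succ, show 8 * a = 4 * (2 * a) by ring,
    pow_mul, hq, one_pow, one_mul, inv_mul_cancel]

theorem Setup.Q_ker {x : Cen t} (hx : x ∈ S.Q) (ho : x ∈ S.π.ker) : x = 1 := by
  have h1 := congrArg Subtype.val (pow_card_eq_one' (x := (⟨x, ho⟩ : S.π.ker)))
  simp only [SubgroupClass.coe_pow, OneMemClass.coe_one] at h1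
  have h := Nat.dvd_gcd (orderOf_dvd_of_pow_eq_one h1) (orderOf_dvd_of_pow_eq_one hx.2)
  have hc : (Nat.card S.π.ker).gcd 8 = 1 := by
    rw [show (8 : ℕ) = 2 ^ 3 from rfl]
    exact Nat.Coprime.pow_right _ (Nat.coprime_two_right.mpr S.odd)
  rw [hc, Nat.dvd_one, orderOf_eq_one_iff] at h
  exact h

/-- `Q` inside `C0`. -/
abbrev Setup.Q0 : Subgroup S.C0 := S.Q.subgroupOf S.C0

instance : S.Q0.Normal := by
  have := S.normal_Q
  infer_instance

theorem Setup.quot_comm (a b : S.C0 ⧸ S.Q0) : a * b = b * a := by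
  obtain ⟨s, hs, hgen⟩ := exists_three
  obtain ⟨s, rfl⟩ := S.φ_surj s
  let sb : S.C0 ⧸ S.Q0 := QuotientGroup.mk ⟨s, hs⟩
  have key : ∀ a : S.C0 ⧸ S.Q0, ∃ (o : S.C0) (i : ℕ),
      (o : Cen t) ∈ S.π.ker ∧ a = QuotientGroup.mk o * sb ^ i := by
    intro a
    obtain ⟨⟨x, hx⟩, rfl⟩ := QuotientGroup.mk_surjective a
    obtain ⟨i, hi⟩ : ∃ i : ℕ, x * (s ^ i)⁻¹ ∈ S.P := by
      rcases hgen _ hx with h | ⟨q, hq, e⟩ | ⟨q, hq, e⟩
      · exact ⟨0, by show q8 (S.φ (x * (s ^ 0)⁻¹)); simpa using h⟩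
      all_goals obtain ⟨q, rfl⟩ := S.φ_surj q
      · refine ⟨1, ?_⟩
        rw [← S.φ_mul, S.φ_eq_iff] at e
        show q8 _
        convert hq using 1
        rw [S.φ_eq_iff, map_mul, e, map_mul, map_inv, pow_one, mul_inv_cancel_right]
      · refine ⟨2, ?_⟩
        rw [← S.φ_mul, ← S.φ_mul, S.φ_eq_iff] at e
        show q8 _
        convert hq using 1
        rw [S.φ_eq_iff, map_mul, e, map_mul, map_mul, map_inv, sq, map_mul, mul_inv_cancel_right]
    obtain ⟨q, hq, o, ho, e⟩ := S.exists_Q hi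
    refine ⟨⟨o, S.ker_le ho⟩, i, ho, ?_⟩
    have hx' : (⟨x, hx⟩ : S.C0) = ⟨q, S.Q_le hq⟩ * (⟨o, S.ker_le ho⟩ * ⟨s, hs⟩ ^ i) :=
      Subtype.ext (by simp [← mul_assoc, ← e])
    rw [hx', QuotientGroup.mk_mul, QuotientGroup.mk_mul, QuotientGroup.mk_pow,
      (QuotientGroup.eq_one_iff _).mpr (show (⟨q, S.Q_le hq⟩ : S.C0) ∈ S.Q0 from hq), one_mul]
  have cen : ∀ o : S.C0, (o : Cen t) ∈ S.π.ker → ∀ c : S.C0 ⧸ S.Q0,
      Commute (QuotientGroup.mk o : S.C0 ⧸ S.Q0) c := by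
    intro o ho c
    obtain ⟨z, rfl⟩ := QuotientGroup.mk_surjective c
    show QuotientGroup.mk o * QuotientGroup.mk z = QuotientGroup.mk z * QuotientGroup.mk o
    rw [← QuotientGroup.mk_mul, ← QuotientGroup.mk_mul,
      show o * z = z * o from Subtype.ext (S.comm_ker z.2 ho).symm]
  obtain ⟨o, i, ho, rfl⟩ := key a
  obtain ⟨o', j, ho', rfl⟩ := key b
  exact ((cen o ho _).mul_left
    (((cen o' ho' _).symm).mul_right (Commute.pow_pow (Commute.refl sb) i j)))

/-- The abelian quotient. -/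
noncomputable instance : CommGroup (S.C0 ⧸ S.Q0) :=
  { (inferInstance : Group (S.C0 ⧸ S.Q0)) with mul_comm := S.quot_comm }

/-- A linear character of `C0` that is nontrivial on the kernel. -/
def Setup.NT (l : S.C0 →* ℂˣ) : Prop :=
  ∃ o : S.C0, (o : Cen t) ∈ S.π.ker ∧ l o ≠ 1

/-- Twisted table sums vanish. -/
theorem Setup.twist_sum [Fintype S.C0] {l : S.C0 →* ℂˣ} (hl : S.NT l) (f : Fin 48 → ℂ) :
    ∑ x : S.C0, (l x : ℂ) * f (S.φ x) = 0 := by
  obtain ⟨o, ho, h1⟩ := hl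
  set T := ∑ x : S.C0, (l x : ℂ) * f (S.φ x)
  have h : T = (l o : ℂ) * T := by
    rw [Finset.mul_sum]
    refine (Fintype.sum_equiv (Equiv.mulRight o) _ _ fun x => ?_).symm
    simp only [Equiv.coe_mulRight, map_mul, Units.val_mul, Subgroup.coe_mul]
    rw [S.φ_mul, S.mem_ker_iff.mp ho,
      show ∀ k, mul k k1 = k from (by decide +kernel)]
    ring
  have : ((l o : ℂ) - 1) * T = 0 := by linear_combination -h
  rcases mul_eq_zero.mp this with h' | h'
  · exact absurd (Units.ext (sub_eq_zero.mp h')) h1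
  · exact h'

open Classical in
/-- Orthogonality to all twists makes the sums over cosets of `Q` invariant under the kernel. -/
theorem Setup.invariant [Fintype S.C0] (u : S.C0 → ℂ)
    (hu : ∀ l : S.C0 →* ℂˣ, S.NT l → (∀ q ∈ S.Q0, l q = 1) →
      ∑ x : S.C0, u x * conj (l x : ℂ) = 0)
    (a : S.C0) (o : S.C0) (ho : (o : Cen t) ∈ S.π.ker) :
    ∑ q : S.C0, (if q ∈ S.Q0 then u (q * a * o) else 0) =
      ∑ q : S.C0, (if q ∈ S.Q0 then u (q * a) else 0) := by
  classical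
  set A := S.C0 ⧸ S.Q0
  have hne : NeZero (Monoid.exponent A) := ⟨Monoid.exponent_ne_zero_of_finite⟩
  have : Finite (A →* ℂˣ) := Nat.finite_of_card_ne_zero (by
    rw [CommGroup.card_monoidHom_of_hasEnoughRootsOfUnity]; exact Nat.card_pos.ne')
  have := Fintype.ofFinite (A →* ℂˣ)
  have col : ∀ b : A, b ≠ 1 → ∑ χ : A →* ℂˣ, (χ b : ℂ) = 0 := by
    intro b hb
    obtain ⟨ψ, hψ⟩ := CommGroup.exists_apply_ne_one_of_hasEnoughRootsOfUnity A ℂ hb
    set T := ∑ χ : A →* ℂˣ, (χ b : ℂ)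
    have h : T = (ψ b : ℂ) * T := by
      rw [Finset.mul_sum]
      exact (Fintype.sum_equiv (Equiv.mulLeft ψ) _ _ fun χ => by simp).symm
    have : ((ψ b : ℂ) - 1) * T = 0 := by linear_combination -h
    exact (mul_eq_zero.mp this).resolve_left fun h' => hψ (Units.ext (sub_eq_zero.mp h'))
  have hnorm : ∀ (χ : A →* ℂˣ) (b : A), conj (χ b : ℂ) = (χ b⁻¹ : ℂ) := by
    intro χ b
    have hp : (χ b : ℂ) ^ Nat.card A = 1 := by
      rw [← Units.val_pow_eq_pow_val, ← map_pow, pow_card_eq_one', map_one, Units.val_one]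
    have hn : ‖(χ b : ℂ)‖ = 1 :=
      Complex.norm_eq_one_of_pow_eq_one hp (Nat.card_pos (α := A)).ne'
    rw [map_inv, Units.val_inv_eq_inv_val, Complex.inv_eq_conj hn]
  -- Fourier inversion
  let U : S.C0 → ℂ := fun b => ∑ q : S.C0, if q ∈ S.Q0 then u (q * b) else 0
  have inv : ∀ b : S.C0, ∑ χ : A →* ℂˣ, (∑ x : S.C0, u x * conj (χ (QuotientGroup.mk x) : ℂ)) *
      (χ (QuotientGroup.mk b) : ℂ) = Nat.card (A →* ℂˣ) * U b := by
    intro b
    simp only [Finset.sum_mul, U, Finset.mul_sum]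
    rw [Finset.sum_comm, ← Fintype.sum_equiv (Equiv.mulRight b) _ _ (fun q => rfl)]
    refine Finset.sum_congr rfl fun q _ => ?_
    simp only [Equiv.coe_mulRight, hnorm, mul_assoc, ← Units.val_mul, ← map_mul, ← Finset.mul_sum]
    rw [QuotientGroup.mk_mul, mul_inv_rev, mul_assoc, mul_comm _ (QuotientGroup.mk b),
      inv_mul_cancel_left]
    split_ifs with hq
    · rw [(QuotientGroup.eq_one_iff _).mpr hq, inv_one]
      simp [mul_comm, Nat.card_eq_fintype_card]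
    · rw [col _ (fun h => hq ((QuotientGroup.eq_one_iff _).mp (inv_eq_one.mp h))), mul_zero,
        mul_zero]
  have key : ∀ χ : A →* ℂˣ, (∑ x : S.C0, u x * conj (χ (QuotientGroup.mk x) : ℂ)) *
      (χ (QuotientGroup.mk (a * o)) : ℂ) =
      (∑ x : S.C0, u x * conj (χ (QuotientGroup.mk x) : ℂ)) * (χ (QuotientGroup.mk a) : ℂ) := by
    intro χ
    by_cases h : S.NT (χ.comp (QuotientGroup.mk' S.Q0))
    · have e : (∑ x : S.C0, u x * conj (χ (QuotientGroup.mk x) : ℂ)) = 0 :=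
        hu (χ.comp (QuotientGroup.mk' S.Q0)) h fun q hq => by
          show χ (QuotientGroup.mk q) = 1
          rw [(QuotientGroup.eq_one_iff q).mpr hq, map_one]
      rw [e, zero_mul, zero_mul]
    · have e : χ (QuotientGroup.mk o) = 1 := by
        by_contra h'
        exact h ⟨o, ho, h'⟩
      rw [QuotientGroup.mk_mul, map_mul, e, mul_one]
  have e := Finset.sum_congr (s₁ := (Finset.univ : Finset (A →* ℂˣ))) rfl fun χ _ => key χ
  rw [inv, inv] at e
  have := mul_left_cancel₀ (Nat.cast_ne_zero.2 Nat.card_pos.ne') e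
  simpa only [U, mul_assoc] using this

end Cfsg.Agent.GL23Core
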