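/-
The constituents of the five virtual characters are orthogonal to all twisted functions.
-/
import Cfsg.Agent.Lib.GL23Core.Twist

set_option autoImplicit false
set_option linter.unusedSectionVars false

namespace Cfsg.Agent.GL23Core

open Cfsg Cfsg.Agent.Char Cfsg.Agent.Coherence Cfsg.Agent.GL23Cent
open scoped ComplexConjugate

/-- The second twisting function. -/
def e2 (k : Fin 48) : ZS := a5 k - b1 k

theorem supp_e2 : Supp e2 := fun k h => by simp [e2, supp_a5 k h, supp_b1 k h]

theorem gc_e2 : tab.GC e2 := Table.GC.sub tab.gc_a5 tab.gc_b1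

/-- Twenty-four times the inner product on the index two subgroup. -/
def ip0 (f g : Fin 48 → ZS) : ZS := ∑ k, if eps k = 1 then f k * star (g k) else 0

theorem ip0s : ip0 b1 b1 = 72 ∧ ip0 e2 e2 = 72 ∧ ip0 b1 e2 = -24 := by decide +kernel

theorem eps_card : (∑ k : Fin 48, if eps k = 1 then (1 : ℕ) else 0) = 24 := by decide +kernel

variable {G : Type*} [Group G] [Fintype G] {t : G} (S : Setup t) [Fintype (Cen t)] [Fintype S.C0]

/-- Class functions on the centralizer supported on special classes are restrictions of their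
induced functions there. -/
theorem Setup.ind_eq_self {f : Cen t → ℂ} (hf : IsClassFunction (Cen t) f)
    (hs : ∀ x, ¬ inD (S.φ x) → f x = 0) (x : Cen t) (hx : inD (S.φ x)) :
    indFun (Cen t) f x = f x := by
  classical
  have hout : ∀ g : G, g ∉ Cen t → extendByZero (Cen t) f (g⁻¹ * x * g) = 0 := by
    intro g hg
    rw [extendByZero_eq]
    split_ifs with hm
    · refine hs _ fun hD => hg ?_
      have := S.special (g := g⁻¹) (x := x) (y := ⟨_, hm⟩) hx hD (by simp)
      simpa using (Cen t).inv_mem this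
    · rfl
  have hin : ∀ g : Cen t, extendByZero (Cen t) f ((g : G)⁻¹ * x * g) = f x := by
    intro g
    have e : (g : G)⁻¹ * x * g = ((g⁻¹ * x * g : Cen t) : G) := by simp
    rw [e, extendByZero_coe]
    simpa using hf x g⁻¹
  rw [indFun, ← Finset.sum_filter_add_sum_filter_not Finset.univ (· ∈ Cen t),
    Finset.sum_eq_zero (s := Finset.univ.filter fun g => ¬ g ∈ Cen t) fun g hg =>
      hout g (Finset.mem_filter.1 hg).2, add_zero,
    Finset.sum_subtype (p := (· ∈ Cen t)) _ (fun g => by simp)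
      (fun g => extendByZero (Cen t) f (g⁻¹ * x * g)),
    Finset.sum_congr rfl fun g _ => hin g, Finset.sum_const, Finset.card_univ, nsmul_eq_mul,
    ← Nat.card_eq_fintype_card]
  have : (Nat.card (Cen t) : ℂ) ≠ 0 := Nat.cast_ne_zero.2 Nat.card_pos.ne'
  field_simp

theorem Setup.card_C0 : Nat.card S.C0 = 24 * Nat.card S.π.ker := by
  classical
  have h := S.sum_eq (fun k => if eps k = 1 then (1 : ℕ) else 0)
  rw [← Finset.card_filter, ← Fintype.card_subtype, ← Nat.card_eq_fintype_card, eps_card,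
    smul_eq_mul, mul_comm] at h
  exact h

theorem Setup.sum_C0 (f : Fin 48 → ℂ) :
    ∑ x : S.C0, f (S.φ x) = Nat.card S.π.ker • ∑ k, if eps k = 1 then f k else 0 := by
  classical
  rw [← S.sum_eq, ← Finset.sum_filter]
  exact (Finset.sum_subtype (p := fun x => x ∈ S.C0) _ (fun x => by simp [S.mem_C0])
    (fun x : Cen t => f (S.φ x))).symm

/-- A twisted table function. -/
noncomputable def Setup.tw (l : S.C0 →* ℂˣ) (a : Fin 48 → ZS) : S.C0 → ℂ :=
  fun x => (l x : ℂ) * S.F a x

theorem Setup.tw_gc (l : S.C0 →* ℂˣ) {a : Fin 48 → ZS} (ha : tab.GC a) :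
    IsGeneralizedCharacter S.C0 (S.tw l a) :=
  IsGeneralizedCharacter.mul (isGeneralizedCharacter_of_isCharacter
      (isCharacter_of_hom ((Units.coeHom ℂ).comp l)))
    (IsGeneralizedCharacter.restrict (S.F_gc ha) S.C0)

/-- Induced to the centralizer. -/
noncomputable def Setup.twC (l : S.C0 →* ℂˣ) (a : Fin 48 → ZS) : Cen t → ℂ :=
  indFun S.C0 (S.tw l a)

/-- Induced to the group. -/
noncomputable def Setup.twG (l : S.C0 →* ℂˣ) (a : Fin 48 → ZS) : G → ℂ :=
  indFun (Cen t) (S.twC l a)

theorem Setup.twG_gc (l : S.C0 →* ℂˣ) {a : Fin 48 → ZS} (ha : tab.GC a) :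
    IsGeneralizedCharacter G (S.twG l a) :=
  IsGeneralizedCharacter.indFun (IsGeneralizedCharacter.indFun (S.tw_gc l ha))

theorem Setup.twC_eq (l : S.C0 →* ℂˣ) {a : Fin 48 → ZS} (ha : tab.GC a) (x : Cen t) :
    S.twC l a x = ((Nat.card S.C0 : ℂ)⁻¹ *
      ∑ y : Cen t, extendByZero S.C0 (fun z => (l z : ℂ)) (y⁻¹ * x * y)) * S.F a x := by
  rw [Setup.twC, indFun, mul_assoc, Finset.sum_mul]
  congr 1
  refine Finset.sum_congr rfl fun y _ => ?_
  rw [extendByZero_eq, extendByZero_eq]
  split_ifs with h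
  · have e : S.F a (y⁻¹ * x * y) = S.F a x := by simpa using S.F_conj ha x y⁻¹
    show (l ⟨_, h⟩ : ℂ) * S.F a (y⁻¹ * x * y) = _
    rw [e]
  · rw [zero_mul]

theorem Setup.twC_supp (l : S.C0 →* ℂˣ) {a : Fin 48 → ZS} (ha : tab.GC a) (hs : Supp a)
    (x : Cen t) (hx : ¬ inD (S.φ x)) : S.twC l a x = 0 := by
  rw [S.twC_eq l ha, S.F_apply, hs _ hx, map_zero, mul_zero]

theorem Setup.twG_eq (l : S.C0 →* ℂˣ) {a : Fin 48 → ZS} (ha : tab.GC a) (hs : Supp a)
    (x : Cen t) (hx : inD (S.φ x)) : S.twG l a x = S.twC l a x :=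
  S.ind_eq_self (IsGeneralizedCharacter.isClassFunction
    (IsGeneralizedCharacter.indFun (S.tw_gc l ha))) (S.twC_supp l ha hs) x hx

theorem conj_lin {A : Type*} [Group A] [Finite A] (l : A →* ℂˣ) (b : A) :
    conj (l b : ℂ) = (l b⁻¹ : ℂ) := by
  have hp : (l b : ℂ) ^ Nat.card A = 1 := by
    rw [← Units.val_pow_eq_pow_val, ← map_pow, pow_card_eq_one', map_one, Units.val_one]
  rw [map_inv, Units.val_inv_eq_inv_val,
    Complex.inv_eq_conj (Complex.norm_eq_one_of_pow_eq_one hp (Nat.card_pos (α := A)).ne')]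

/-- Inner products of twisted functions. -/
theorem Setup.tw_inner {l : S.C0 →* ℂˣ} (hl : S.NT l) {a b : Fin 48 → ZS} (ha : tab.GC a)
    (hb : Supp b) (hsa : Supp a) {n m : ℤ} (h : ip0 a b = (n : ZS)) (hn : n = 24 * m) :
    classInner (S.twG l a) (S.twG l b) = m := by
  classical
  have h1 : classInner (S.twG l a) (S.twG l b) = classInner (S.twC l a) (S.twC l b) := by
    conv_lhs => arg 2; unfold Setup.twG
    rw [frobenius_reciprocity' _ _ (isGC_isClassFunction (S.twG_gc l ha)), classInner, classInner]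
    congr 1
    refine Finset.sum_congr rfl fun x _ => ?_
    by_cases hx : inD (S.φ x)
    · rw [S.twG_eq l ha hsa x hx]
    · have : S.twC l b x = 0 := by
        rw [Setup.twC, indFun]
        simp only [extendByZero_eq]
        rw [Finset.sum_eq_zero, mul_zero]
        intro y _
        split_ifs with hm
        · show (l ⟨_, hm⟩ : ℂ) * ι (b (S.φ (y⁻¹ * x * y))) = 0
          rw [hb _ ?_, map_zero, mul_zero]
          intro hD
          apply hx
          obtain ⟨N, hN⟩ := S.pow_eq_t _ hD
          have key : ∀ k l u : Fin 48, inD k → mul u l = k1 → inD (mul (mul l k) u) := by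
            decide +kernel
          have := key _ (S.φ y) (S.φ y⁻¹) hD (by rw [← S.φ_mul, inv_mul_cancel, S.φ_one])
          rwa [← S.φ_mul, ← S.φ_mul, show y * (y⁻¹ * x * y) * y⁻¹ = x by group] at this
        · rfl
      simp [this]
  rw [h1]
  show classInner (S.twC l a) (indFun S.C0 (S.tw l b)) = _
  rw [Setup.twC, frobenius_reciprocity' S.C0 (S.tw l b)
    (IsGeneralizedCharacter.isClassFunction (IsGeneralizedCharacter.indFun (S.tw_gc l ha))),
    classInner]
  set J : Cen t → ℂ := fun y => ∑ x : S.C0,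
    extendByZero S.C0 (fun z => (l z : ℂ)) (y⁻¹ * x * y) * conj (l x : ℂ) *
      ι (a (S.φ x) * star (b (S.φ x)))
  set T : ℂ := ∑ x : S.C0, ι (a (S.φ x) * star (b (S.φ x)))
  have hsum : ∑ x : S.C0, indFun S.C0 (S.tw l a) x * conj (S.tw l b x) =
      (Nat.card S.C0 : ℂ)⁻¹ * ∑ y : Cen t, J y := by
    rw [Finset.sum_comm, Finset.mul_sum]
    refine Finset.sum_congr rfl fun x _ => ?_
    show S.twC l a x * _ = _
    rw [S.twC_eq l ha, ← Finset.sum_mul, ← Finset.sum_mul]
    simp only [Setup.tw, map_mul, S.F_apply, conj_ι]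
    ring
  have hJ : ∀ y : Cen t, J y = if y ∈ S.C0 then T else 0 := by
    intro y
    have hm : ∀ x : S.C0, y⁻¹ * (x : Cen t) * y ∈ S.C0 := fun x => by
      simpa using S.normal_C0.conj_mem _ x.2 y⁻¹
    split_ifs with hy
    · refine Finset.sum_congr rfl fun x _ => ?_
      rw [extendByZero_mem S.C0 _ (hm x), conj_lin]
      have e : (⟨_, hm x⟩ : S.C0) = (⟨y, hy⟩ : S.C0)⁻¹ * x * ⟨y, hy⟩ := rfl
      show ((l ⟨_, hm x⟩ : ℂˣ) : ℂ) * _ * _ = _
      rw [e, ← Units.val_mul, ← map_mul, map_mul, map_mul, map_mul, map_inv, map_inv,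
        mul_right_comm _ (l x), inv_mul_cancel, one_mul, mul_inv_cancel, Units.val_one, one_mul]
    · -- a nontrivial twist
      let ν : S.C0 →* ℂˣ :=
        { toFun := fun x => l ⟨_, hm x⟩ * (l x)⁻¹
          map_one' := by
            rw [show (⟨_, hm 1⟩ : S.C0) = 1 from Subtype.ext (by simp), map_one, inv_one, mul_one]
          map_mul' := fun x z => by
            rw [show (⟨_, hm (x * z)⟩ : S.C0) = ⟨_, hm x⟩ * ⟨_, hm z⟩ from
              Subtype.ext (by simp [mul_assoc]), map_mul, map_mul, mul_inv]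
            exact mul_mul_mul_comm _ _ _ _ }
      have hν : S.NT ν := by
        obtain ⟨o, ho, h1⟩ := hl
        refine ⟨o, ho, fun he => h1 ?_⟩
        have hy' : eps (S.φ y⁻¹) ≠ 1 := fun e => hy (by simpa using S.C0.inv_mem e)
        have e : (⟨_, hm o⟩ : S.C0) = o⁻¹ :=
          Subtype.ext (by simpa using S.inv y⁻¹ o ho hy')
        change l ⟨_, hm o⟩ * (l o)⁻¹ = 1 at he
        rw [e, map_inv, ← mul_inv, inv_eq_one, ← sq] at he
        obtain ⟨k, hk⟩ := S.odd
        have hp : (l o) ^ Nat.card S.π.ker = 1 := by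
          rw [← map_pow, show o ^ Nat.card S.π.ker = 1 from Subtype.ext (by
            simpa using congrArg Subtype.val (pow_card_eq_one' (x := (⟨_, ho⟩ : S.π.ker)))),
            map_one]
        rwa [hk, pow_succ, pow_mul, he, one_pow, one_mul] at hp
      rw [← S.twist_sum hν (fun k => ι (a k * star (b k)))]
      refine Finset.sum_congr rfl fun x _ => ?_
      rw [extendByZero_mem S.C0 _ (hm x), conj_lin]
      show _ = ((l ⟨_, hm x⟩ * (l x)⁻¹ : ℂˣ) : ℂ) * _
      rw [Units.val_mul, ← map_inv]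
  have hT : T = (Nat.card S.π.ker : ℂ) * n := by
    have := S.sum_C0 (fun k => ι (a k * star (b k)))
    simp only [← apply_ite ι, ← map_zero ι, ← map_sum, nsmul_eq_mul] at this
    rw [show T = ι (∑ x : S.C0, a (S.φ x) * star (b (S.φ x))) from (map_sum ι _ _).symm, this]
    congr 1
    rw [← ι_int, ← h, ip0]
  rw [hsum, Finset.sum_congr rfl fun y _ => hJ y, Finset.sum_ite, Finset.sum_const_zero, add_zero,
    Finset.sum_const, ← Fintype.card_subtype, ← Nat.card_eq_fintype_card, nsmul_eq_mul, hT, hn,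
    show Nat.card {x // x ∈ S.C0} = Nat.card S.C0 from rfl, S.card_C0]
  have : (Nat.card S.π.ker : ℂ) ≠ 0 := Nat.cast_ne_zero.2 Nat.card_pos.ne'
  push_cast
  field_simp

/-- A class function of the group meets a twisted function only on the index two subgroup. -/
theorem Setup.inner_twG (l : S.C0 →* ℂˣ) {a : Fin 48 → ZS} (ha : tab.GC a) {χ : G → ℂ}
    (hχ : IsClassFunction G χ) :
    classInner χ (S.twG l a) = classInner (fun x : S.C0 => χ x) (S.tw l a) := by
  rw [Setup.twG, frobenius_reciprocity' _ _ hχ, Setup.twC, frobenius_reciprocity']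
  intro x y
  show χ ((y * x * y⁻¹ : Cen t) : G) = χ x
  simpa using hχ (x : G) (y : G)

theorem Setup.five_twG {l : S.C0 →* ℂˣ} (hl : S.NT l) {a b : Fin 48 → ZS} (ha : tab.GC a)
    (hb : tab.GC b) (hsb : Supp b) (hsa : Supp a) :
    classInner (indFun (Cen t) (S.F b)) (S.twG l a) = 0 := by
  rw [S.inner_twG l ha (indFun_isClassFunction _ _), classInner]
  refine mul_eq_zero_of_right _ ?_
  rw [← map_eq_zero (starRingEnd ℂ), map_sum]
  rw [← S.twist_sum hl (fun k => ι (a k * star (b k)))]
  refine Finset.sum_congr rfl fun x _ => ?_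
  by_cases hx : inD (S.φ x)
  · rw [S.indFun_eq hb hsb _ hx]
    simp only [Setup.tw, map_mul, Complex.conj_conj, S.F_apply, conj_ι, star_star]
    ring
  · simp [Setup.tw, S.F_apply, hsa _ hx]

theorem Setup.one_twG {l : S.C0 →* ℂˣ} (hl : S.NT l) {a : Fin 48 → ZS} (ha : tab.GC a) :
    classInner (1 : G → ℂ) (S.twG l a) = 0 := by
  rw [S.inner_twG l ha (IsCharacter.isClassFunction isCharacter_one), classInner]
  refine mul_eq_zero_of_right _ ?_
  rw [← map_eq_zero (starRingEnd ℂ), map_sum]
  rw [← S.twist_sum hl (fun k => ι (a k))]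
  refine Finset.sum_congr rfl fun x _ => ?_
  simp [Setup.tw, S.F_apply]

theorem ip_zero {φ ψ : G → ℂ} (h : classInner φ ψ = 0) : classInner ψ φ = 0 := by
  rw [← classInner_conj_symm, h, map_zero]

theorem ip_one {φ ψ : G → ℂ} (h : classInner φ ψ = 1) : classInner ψ φ = 1 := by
  rw [← classInner_conj_symm, h, map_one]

theorem twisted_zero (d : Five G) {R Y U V : G → ℂ} (pR : d.Profile R 0 1 1 1 1)
    (pY : d.Profile Y 0 0 0 1 0) (pU : d.Profile U 1 0 0 0 1) (pV : d.Profile V 0 0 0 0 1)
    (hA5 : d.A5 = 1 + R + Y) (hA6 : d.A6 = R + U + V)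
    {ψ ψ' : G → ℂ} (gψ : IsGeneralizedCharacter G ψ) (gψ' : IsGeneralizedCharacter G ψ')
    (nψ : classInner ψ ψ = 3) (nψ' : classInner ψ' ψ' = 3) (ipψ : classInner ψ ψ' = -1)
    (oψ : classInner 1 ψ = 0 ∧ classInner d.A1 ψ = 0 ∧ classInner d.B1 ψ = 0 ∧
      classInner d.B2 ψ = 0 ∧ classInner d.A5 ψ = 0 ∧ classInner d.A6 ψ = 0)
    (oψ' : classInner 1 ψ' = 0 ∧ classInner d.A1 ψ' = 0 ∧ classInner d.B1 ψ' = 0 ∧
      classInner d.B2 ψ' = 0 ∧ classInner d.A5 ψ' = 0 ∧ classInner d.A6 ψ' = 0) :
    classInner R ψ = 0 ∧ classInner Y ψ = 0 ∧ classInner U ψ = 0 ∧ classInner V ψ = 0 ∧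
      classInner R ψ' = 0 ∧ classInner Y ψ' = 0 ∧ classInner U ψ' = 0 ∧ classInner V ψ' = 0 := by
  obtain ⟨sR, R1, rA1, rB1, rB2, rA5, rA6⟩ := pR
  obtain ⟨sY, Y1, yA1, yB1, yB2, yA5, yA6⟩ := pY
  obtain ⟨sU, U1, uA1, uB1, uB2, uA5, uA6⟩ := pU
  obtain ⟨sV, V1, vA1, vB1, vB2, vA5, vA6⟩ := pV
  simp only [Int.cast_zero, Int.cast_one] at rA1 rB1 rB2 rA5 rA6 yA1 yB1 yB2 yA5 yA6 uA1 uB1 uB2 uA5 uA6 vA1 vB1 vB2 vA5 vA6
  have nR := signed_norm sR
  have nY := signed_norm sY
  have nU := signed_norm sU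
  have nV := signed_norm sV
  have RY : classInner R Y = 0 := by
    have h := rA5; rw [hA5, classInner_add_right, classInner_add_right, R1, nR] at h
    linear_combination h
  have RUV : classInner R U + classInner R V = 0 := by
    have h := rA6; rw [hA6, classInner_add_right, classInner_add_right, nR] at h
    linear_combination h
  have eU : classInner U R + classInner U V = 0 := by
    have h := uA6; rw [hA6, classInner_add_right, classInner_add_right, nU] at h
    linear_combination h
  have eV : classInner V R + classInner V U = 0 := by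
    have h := vA6; rw [hA6, classInner_add_right, classInner_add_right, nV] at h
    linear_combination h
  have e' : classInner U R + classInner V R = 0 := by
    have := congrArg (starRingEnd ℂ) RUV
    rwa [map_add, classInner_conj_symm, classInner_conj_symm, map_zero] at this
  obtain ⟨k, hk⟩ := classInner_gc_int (isGC_signed sU) (isGC_signed sV)
  have UV : classInner U V = 0 := by
    have hk' := ip_swap hk
    rw [hk] at eU
    rw [hk'] at eV
    rw [hk]
    linear_combination (eU + eV - e') / 2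
  have UR : classInner U R = 0 := by linear_combination eU - UV
  have VU := ip_zero UV
  have RU := ip_zero UR
  have VR : classInner V R = 0 := by linear_combination eV - VU
  have RV := ip_zero VR
  have YR := ip_zero RY
  -- the constituents of `B1`, `B2`, `A1`
  let X := d.B1 - R
  let X' := d.B2 - R
  let Z := d.A1 - 1 - U + X
  have B1R := ip_one rB1
  have B2R := ip_one rB2
  have A1R : classInner d.A1 R = 0 := ip_zero rA1
  have B1B2 : classInner d.B1 d.B2 = 1 := ip_one d.i21
  have B1A1 : classInner d.B1 d.A1 = -1 := by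
    rw [← classInner_conj_symm, d.i11, map_neg, map_one]
  have RX : classInner R X = 0 := by simp [X, classInner_sub_right, rB1, nR]
  have XR := ip_zero RX
  have RX' : classInner R X' = 0 := by simp [X', classInner_sub_right, rB2, nR]
  have X'R := ip_zero RX'
  have nX : classInner X X = 1 := by
    simp [X, classInner_sub_left, classInner_sub_right, d.nB1, B1R, rB1, nR]; norm_num
  have nX' : classInner X' X' = 1 := by
    simp [X', classInner_sub_left, classInner_sub_right, d.nB2, B2R, rB2, nR]; norm_num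
  have XX' : classInner X X' = 0 := by
    simp [X, X', classInner_sub_left, classInner_sub_right, B1B2, B1R, rB2, nR]
  have X'X := ip_zero XX'
  have YX : classInner Y X = 0 := by simp [X, classInner_sub_right, yB1, YR]
  have XY := ip_zero YX
  have YX' : classInner Y X' = 0 := by simp [X', classInner_sub_right, yB2, YR]
  have X'Y := ip_zero YX'
  have UX : classInner U X = 0 := by simp [X, classInner_sub_right, uB1, UR]
  have XU := ip_zero UX
  have VX : classInner V X = 0 := by simp [X, classInner_sub_right, vB1, VR]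
  have oneR := ip_zero R1
  have oneU := ip_zero U1
  have X1 : classInner X 1 = 0 := by simp [X, classInner_sub_left, d.oB1, R1]
  have oneX := ip_zero X1
  have XA1 : classInner X d.A1 = -1 := by
    simp [X, classInner_sub_left, B1A1, rA1]
  have A1X : classInner d.A1 X = -1 := by
    rw [← classInner_conj_symm, XA1, map_neg, map_one]
  have UZ : classInner U Z = 0 := by
    simp [Z, classInner_sub_right, classInner_add_right, uA1, U1, nU, UX]
  have ZU := ip_zero UZ
  have VZ : classInner V Z = 0 := by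
    simp [Z, classInner_sub_right, classInner_add_right, vA1, V1, VU, VX]
  have ZV := ip_zero VZ
  have nZ : classInner Z Z = 1 := by
    simp [Z, classInner_sub_left, classInner_sub_right, classInner_add_left, classInner_add_right,
      d.nA1, d.oA1, ip_one d.oA1, uA1, ip_one uA1, A1X, XA1, one_norm, U1, oneU, oneX, X1, nU, UX,
      XU, nX]
    norm_num
  suffices key : ∀ φ : G → ℂ, IsGeneralizedCharacter G φ → classInner φ φ = 3 →
      (classInner 1 φ = 0 ∧ classInner d.A1 φ = 0 ∧ classInner d.B1 φ = 0 ∧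
      classInner d.B2 φ = 0 ∧ classInner d.A5 φ = 0 ∧ classInner d.A6 φ = 0) →
      ∃ u : ℤ, classInner R φ = 0 ∧ classInner Y φ = 0 ∧ classInner U φ = u ∧
        classInner V φ = -u ∧ classInner (U - V - Z) φ = 3 * u ∧
        (u ≠ 0 → φ = (u : ℂ) • (U - V - Z)) by
    obtain ⟨u, hR, hY, hU, hV, hW, he⟩ := key ψ gψ nψ oψ
    obtain ⟨u', hR', hY', hU', hV', hW', he'⟩ := key ψ' gψ' nψ' oψ'
    have hu : u = 0 := by
      by_contra hu
      rw [he hu, classInner_smul_left, hW'] at ipψ
      have h : u * (3 * u') = -1 := by exact_mod_cast ipψ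
      have : (3 : ℤ) ∣ 1 := ⟨-(u * u'), by linear_combination h⟩
      norm_num at this
    have hu' : u' = 0 := by
      by_contra hu'
      rw [← classInner_conj_symm, he' hu', classInner_smul_left, hW, hu] at ipψ
      simp at ipψ
    subst hu hu'
    simp only [Int.cast_zero, neg_zero] at hU hV hU' hV'
    exact ⟨hR, hY, hU, hV, hR', hY', hU', hV'⟩
  intro φ gφ nφ ⟨o1, oA1, oB1, oB2, oA5, oA6⟩
  obtain ⟨r, hr⟩ := classInner_gc_int (isGC_signed sR) gφ
  obtain ⟨u, hu⟩ := classInner_gc_int (isGC_signed sU) gφ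
  have hX : classInner X φ = -(r : ℂ) := by simp [X, classInner_sub_left, oB1, hr]
  have hX' : classInner X' φ = -(r : ℂ) := by simp [X', classInner_sub_left, oB2, hr]
  have hY : classInner Y φ = -(r : ℂ) := by
    have h := oA5; rw [hA5, classInner_add_left, classInner_add_left, o1, hr] at h
    linear_combination h
  -- `r = 0`
  have hr0 : r = 0 := by
    let W := R - X - X' - Y
    have hW : classInner W φ = 4 * (r : ℂ) := by
      simp [W, classInner_sub_left, hr, hX, hX', hY]; ring
    have nW : classInner W W = 4 := by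
      simp [W, classInner_sub_left, classInner_sub_right, nR, nX, nX', nY, RX, RX', RY, XR, X'R,
        YR, XX', X'X, XY, YX, X'Y, YX']
      norm_num
    have hWφ : classInner φ W = 4 * (r : ℂ) := by
      rw [← classInner_conj_symm, hW, map_mul, map_intCast, map_ofNat]
    have h := norm_nonneg (θ := φ - (r : ℂ) • W) (n := 3 - 4 * r ^ 2) (by
      simp only [classInner_sub_left, classInner_sub_right, classInner_smul_left,
        classInner_smul_right, map_intCast, nφ, hW, hWφ, nW]
      push_cast; ring)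
    nlinarith
  subst hr0
  simp only [Int.cast_zero, neg_zero] at hr hY hX
  have hV : classInner V φ = -(u : ℂ) := by
    have h := oA6; rw [hA6, classInner_add_left, classInner_add_left, hr, hu] at h
    linear_combination h
  have hZ : classInner Z φ = -(u : ℂ) := by
    simp [Z, classInner_sub_left, classInner_add_left, oA1, o1, hu, hX]
  have hW : classInner (U - V - Z) φ = 3 * (u : ℂ) := by
    simp [classInner_sub_left, hu, hV, hZ]; ring
  refine ⟨u, hr, hY, hu, hV, hW, fun hu0 => ?_⟩
  have nW : classInner (U - V - Z) (U - V - Z) = 3 := by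
    simp [classInner_sub_left, classInner_sub_right, nU, nV, nZ, UV, VU, UZ, ZU, VZ, ZV]
    norm_num
  have hWφ : classInner φ (U - V - Z) = 3 * (u : ℂ) := by
    rw [← classInner_conj_symm, hW, map_mul, map_intCast, map_ofNat]
  have e : classInner (φ - (u : ℂ) • (U - V - Z)) (φ - (u : ℂ) • (U - V - Z)) =
      ((3 - 3 * u ^ 2 : ℤ) : ℂ) := by
    rw [classInner_sub_left, classInner_sub_right, classInner_sub_right, classInner_smul_left,
      classInner_smul_right, classInner_smul_left, classInner_smul_right, map_intCast, nφ, hW,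
      hWφ, nW]
    push_cast; ring
  have hn := norm_nonneg e
  have h1 : 1 ≤ u ^ 2 := by
    have : 0 < u ^ 2 := by positivity
    omega
  rw [show (3 - 3 * u ^ 2 : ℤ) = 0 by omega, Int.cast_zero] at e
  exact sub_eq_zero.mp (classInner_self_eq_zero.mp e)

/-- Linear characters used for the twists. -/
def Setup.Good (l : S.C0 →* ℂˣ) : Prop := S.NT l ∧ ∀ q ∈ S.Q0, l q = 1

/-- Orthogonality to the twists. -/
def Setup.Orth (χ : G → ℂ) : Prop :=
  ∀ l : S.C0 →* ℂˣ, S.Good l → classInner χ (S.twG l b1) = 0 ∧ classInner χ (S.twG l e2) = 0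

theorem Setup.orth_constituents {R Y U V : G → ℂ} (pR : S.five.Profile R 0 1 1 1 1)
    (pY : S.five.Profile Y 0 0 0 1 0) (pU : S.five.Profile U 1 0 0 0 1)
    (pV : S.five.Profile V 0 0 0 0 1)
    (hA5 : S.five.A5 = 1 + R + Y) (hA6 : S.five.A6 = R + U + V) :
    S.Orth R ∧ S.Orth Y ∧ S.Orth U ∧ S.Orth V := by
  have h : ∀ l : S.C0 →* ℂˣ, S.Good l → _ := fun l hl => by
    have o : ∀ a : Fin 48 → ZS, tab.GC a → Supp a →
        classInner 1 (S.twG l a) = 0 ∧ classInner S.five.A1 (S.twG l a) = 0 ∧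
        classInner S.five.B1 (S.twG l a) = 0 ∧ classInner S.five.B2 (S.twG l a) = 0 ∧
        classInner S.five.A5 (S.twG l a) = 0 ∧ classInner S.five.A6 (S.twG l a) = 0 :=
      fun a ga sa => ⟨S.one_twG hl.1 ga, S.five_twG hl.1 ga tab.gc_a1 supp_a1 sa,
        S.five_twG hl.1 ga tab.gc_b1 supp_b1 sa, S.five_twG hl.1 ga tab.gc_b2 supp_b2 sa,
        S.five_twG hl.1 ga tab.gc_a5 supp_a5 sa, S.five_twG hl.1 ga tab.gc_a6 supp_a6 sa⟩
    exact twisted_zero S.five pR pY pU pV hA5 hA6 (S.twG_gc l tab.gc_b1) (S.twG_gc l gc_e2)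
      (by rw [S.tw_inner hl.1 tab.gc_b1 supp_b1 supp_b1 (n := 72) (m := 3) (mod_cast ip0s.1) rfl]; norm_num)
      (by rw [S.tw_inner hl.1 gc_e2 supp_e2 supp_e2 (n := 72) (m := 3) (mod_cast ip0s.2.1) rfl]; norm_num)
      (by rw [S.tw_inner hl.1 tab.gc_b1 supp_e2 supp_b1 (n := -24) (m := -1) (mod_cast ip0s.2.2) rfl]; norm_num)
      (o b1 tab.gc_b1 supp_b1) (o e2 gc_e2 supp_e2)
  exact ⟨fun l hl => ⟨(h l hl).1, (h l hl).2.2.2.2.1⟩,
    fun l hl => ⟨(h l hl).2.1, (h l hl).2.2.2.2.2.1⟩,
    fun l hl => ⟨(h l hl).2.2.1, (h l hl).2.2.2.2.2.2.1⟩,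
    fun l hl => ⟨(h l hl).2.2.2.1, (h l hl).2.2.2.2.2.2.2⟩⟩

end Cfsg.Agent.GL23Core
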