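/-
The odd kernel of a `GL(2,3)`-type involution centralizer of a simple group is trivial.
-/
import Cfsg.Agent.Lib.GL23Core.Proj
import Cfsg.Agent.Lib.GL23Cent.Simple

set_option autoImplicit false
set_option linter.unusedSectionVars false

namespace Cfsg.Agent.GL23Core

open Cfsg Cfsg.Agent.Char Cfsg.Agent.Coherence Cfsg.Agent.GL23Cent
open scoped ComplexConjugate

theorem q8_values : ∀ k : Fin 48, q8 k →
    2 * b1 k - a5 k = (if k = kz then 8 else 0) ∧
    a5 k = (if k = k1 ∨ k = kz then 0 else 4) := by decide +kernel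

theorem a56 : ∀ k : Fin 48, a5 k + a6 k =
    (if q8 k ∧ ¬ (k = k1 ∨ k = kz) then 8 else 0) := by decide +kernel

theorem refl_eps : ∀ k : Fin 48, isRefl k → eps k ≠ 1 := by decide +kernel

variable {G : Type*} [Group G] [Fintype G] {t : G} (S : Setup t) [Fintype (Cen t)] [Fintype S.C0]

/-- The orthogonality in summation form. -/
theorem Setup.orth_sum {χ : G → ℂ} (hχ : IsClassFunction G χ) (hO : S.Orth χ)
    {l : S.C0 →* ℂˣ} (hl : S.Good l) :
    ∑ x : S.C0, χ x * conj (S.F b1 x) * conj (l x : ℂ) = 0 ∧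
      ∑ x : S.C0, χ x * conj (S.F e2 x) * conj (l x : ℂ) = 0 := by
  have h : ∀ a, tab.GC a → classInner χ (S.twG l a) = 0 →
      ∑ x : S.C0, χ x * conj (S.F a x) * conj (l x : ℂ) = 0 := by
    intro a ga h0
    rw [S.inner_twG l ga hχ, classInner] at h0
    rw [← (mul_eq_zero.mp h0).resolve_left
      (inv_ne_zero (Nat.cast_ne_zero.2 Nat.card_pos.ne'))]
    refine Finset.sum_congr rfl fun x _ => ?_
    simp only [Setup.tw, map_mul]; ring
  exact ⟨h b1 tab.gc_b1 (hO l hl).1, h e2 gc_e2 (hO l hl).2⟩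

theorem Setup.kz_of_Q {q : S.C0} (hq : q ∈ S.Q0) (h : S.φ q = kz) : (q : Cen t) = tC t := by
  have hP : tC t ∈ S.P := by show q8 (S.φ (tC t)); rw [S.φ_tC]; decide +kernel
  have htQ : tC t ∈ S.Q := ⟨hP, by
    rw [show (8 : ℕ) = 2 * 4 from rfl, pow_mul, sq, S.tC_sq, one_pow]⟩
  exact (eq_of_mul_inv_eq_one (S.Q_ker (mul_mem hq (inv_mem htQ)) (by
    rw [MonoidHom.mem_ker, map_mul, map_inv, S.φ_eq_iff.mp (h.trans S.φ_tC.symm),
      mul_inv_cancel])))

theorem Setup.tC_mem : tC t ∈ S.C0 := by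
  rw [S.mem_C0, S.φ_tC]; decide +kernel

theorem Setup.tC_Q : (⟨tC t, S.tC_mem⟩ : S.C0) ∈ S.Q0 := by
  refine ⟨?_, ?_⟩
  · show q8 (S.φ (tC t)); rw [S.φ_tC]; decide +kernel
  · show tC t ^ 8 = 1
    rw [show (8 : ℕ) = 2 * 4 from rfl, pow_mul, sq, S.tC_sq, one_pow]

open Classical in
/-- The sum over the elements of order four of `Q`, shifted by `o`. -/
noncomputable def Setup.gsum (χ : G → ℂ) (o : S.C0) : ℂ :=
  ∑ q : S.C0, if q ∈ S.Q0 ∧ ¬ (S.φ q = k1 ∨ S.φ q = kz) then χ ((q * o : S.C0) : Cen t) else 0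

/-- Constancy on the fibres. -/
theorem Setup.const {χ : G → ℂ} (hχ : IsClassFunction G χ) (hO : S.Orth χ) (o : S.C0)
    (ho : (o : Cen t) ∈ S.π.ker) :
    χ ((tC t * o : Cen t) : G) = χ t ∧ S.gsum χ o = S.gsum χ 1 := by
  classical
  have hu : ∀ (c d : ℤ) (l : S.C0 →* ℂˣ), S.NT l → (∀ q ∈ S.Q0, l q = 1) →
      ∑ x : S.C0, (χ x * ((c : ℂ) * conj (S.F b1 x) + (d : ℂ) * conj (S.F e2 x))) *
        conj (l x : ℂ) = 0 := by
    intro c d l h1 h2
    obtain ⟨hb, he⟩ := S.orth_sum hχ hO (l := l) ⟨h1, h2⟩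
    calc _ = (c : ℂ) * (∑ x : S.C0, χ x * conj (S.F b1 x) * conj (l x : ℂ)) +
          (d : ℂ) * ∑ x : S.C0, χ x * conj (S.F e2 x) * conj (l x : ℂ) := by
            rw [Finset.mul_sum, Finset.mul_sum, ← Finset.sum_add_distrib]
            exact Finset.sum_congr rfl fun x _ => by ring
      _ = 0 := by rw [hb, he, mul_zero, mul_zero, add_zero]
  have hφ : ∀ q : S.C0, S.φ ((q * o : S.C0) : Cen t) = S.φ q := fun q => by
    rw [Subgroup.coe_mul, S.φ_mul, S.mem_ker_iff.mp ho,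
      show ∀ k, mul k k1 = k from (by decide +kernel)]
  have val : ∀ (c d : ℤ) (q : S.C0), (c : ℂ) * conj (S.F b1 q) + (d : ℂ) * conj (S.F e2 q) =
      conj (ι ((c : ZS) * b1 (S.φ q) + (d : ZS) * e2 (S.φ q))) := fun c d q => by
    simp [S.F_apply, map_add, map_mul]
  constructor
  · have h := S.invariant _ (hu 1 (-1)) 1 o ho
    simp only [mul_one] at h
    have e : ∀ o' : S.C0, (o' : Cen t) ∈ S.π.ker → (∀ q : S.C0, S.φ ((q * o' : S.C0) : Cen t) = S.φ q) →
        ∑ q : S.C0, (if q ∈ S.Q0 then χ ((q * o' : S.C0) : Cen t) *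
          ((((1 : ℤ)) : ℂ) * conj (S.F b1 (q * o' : S.C0)) +
            (((-1 : ℤ)) : ℂ) * conj (S.F e2 (q * o' : S.C0))) else 0) =
        8 * χ ((tC t * o' : Cen t) : G) := by
      intro o' _ hφ'
      rw [Finset.sum_eq_single (⟨tC t, S.tC_mem⟩ : S.C0)]
      · rw [if_pos S.tC_Q, val, hφ', S.φ_tC,
          show ((1 : ℤ) : ZS) * b1 kz + ((-1 : ℤ) : ZS) * e2 kz = ((8 : ℤ) : ZS) by decide +kernel,
          ι_int, map_intCast]
        simp [mul_comm]
      · intro q _ hq
        split_ifs with hQ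
        · rw [val, hφ',
            show ((1 : ℤ) : ZS) * b1 (S.φ q) + ((-1 : ℤ) : ZS) * e2 (S.φ q) =
              2 * b1 (S.φ q) - a5 (S.φ q) by simp [e2]; ring, (q8_values (S.φ (q : Cen t)) hQ.1).1, if_neg]
          · simp
          · exact fun h' => hq (Subtype.ext (S.kz_of_Q hQ h'))
        · rfl
      · simp
    have h1 : ∀ q : S.C0, S.φ ((q * 1 : S.C0) : Cen t) = S.φ q := fun q => by simp
    have h2 := e 1 (one_mem _) h1
    simp only [mul_one] at h2
    rw [e o ho hφ, h2] at h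
    simpa [tC] using mul_left_cancel₀ (by norm_num) h
  · have h := S.invariant _ (hu 1 1) 1 o ho
    simp only [mul_one] at h
    have e : ∀ o' : S.C0, (∀ q : S.C0, S.φ ((q * o' : S.C0) : Cen t) = S.φ q) →
        ∑ q : S.C0, (if q ∈ S.Q0 then χ ((q * o' : S.C0) : Cen t) *
          ((((1 : ℤ)) : ℂ) * conj (S.F b1 (q * o' : S.C0)) +
            (((1 : ℤ)) : ℂ) * conj (S.F e2 (q * o' : S.C0))) else 0) = 4 * S.gsum χ o' := by
      intro o' hφ'
      rw [Setup.gsum, Finset.mul_sum]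
      refine Finset.sum_congr rfl fun q _ => ?_
      by_cases hQ : q ∈ S.Q0
      · rw [if_pos hQ, val, hφ',
          show ((1 : ℤ) : ZS) * b1 (S.φ q) + ((1 : ℤ) : ZS) * e2 (S.φ q) = a5 (S.φ q) by simp [e2],
          (q8_values (S.φ (q : Cen t)) hQ.1).2]
        by_cases hg : S.φ q = k1 ∨ S.φ q = kz
        · simp [hg]
        · rw [if_neg hg, if_pos ⟨hQ, hg⟩, map_ofNat, map_ofNat]; ring
      · simp [hQ]
    have h1 : ∀ q : S.C0, S.φ ((q * 1 : S.C0) : Cen t) = S.φ q := fun q => by simp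
    have h2 := e 1 h1
    simp only [mul_one] at h2
    rw [e o hφ, h2] at h
    exact mul_left_cancel₀ (by norm_num) h

theorem Setup.value_t {χ : G → ℂ} (hχ : IsClassFunction G χ) (hO : S.Orth χ) :
    χ t = 4 * classInner χ S.five.A1 + 6 * classInner χ S.five.B1 +
      2 * classInner χ S.five.B2 - 3 * classInner χ S.five.A5 - 3 * classInner χ S.five.A6 := by
  classical
  show χ t = 4 * classInner χ (indFun (Cen t) (S.F a1)) + 6 * classInner χ (indFun (Cen t) (S.F b1)) +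
    2 * classInner χ (indFun (Cen t) (S.F b2)) - 3 * classInner χ (indFun (Cen t) (S.F a5)) -
    3 * classInner χ (indFun (Cen t) (S.F a6))
  rw [frobenius_reciprocity' _ (S.F a1) hχ, frobenius_reciprocity' _ (S.F b1) hχ,
    frobenius_reciprocity' _ (S.F b2) hχ, frobenius_reciprocity' _ (S.F a5) hχ,
    frobenius_reciprocity' _ (S.F a6) hχ]
  have hm : (Nat.card S.π.ker : ℂ) ≠ 0 := Nat.cast_ne_zero.2 Nat.card_pos.ne'
  have key : ∀ x : Cen t, 4 * conj (S.F a1 x) + 6 * conj (S.F b1 x) + 2 * conj (S.F b2 x) -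
      3 * conj (S.F a5 x) - 3 * conj (S.F a6 x) = if S.φ x = kz then (48 : ℂ) else 0 := by
    intro x
    have h := congrArg (fun z => conj (ι z)) (ident_t (S.φ x))
    simp only [map_sub, map_add, map_mul, map_ofNat, apply_ite ι, apply_ite (starRingEnd ℂ),
      map_zero] at h
    simp only [S.F_apply]
    exact h.symm
  have hc : ∀ x : Cen t, S.φ x = kz → χ x = χ t := by
    intro x hx
    have ho : tC t * x ∈ S.π.ker := S.mem_ker_iff.mpr (by
      rw [S.φ_mul, hx, S.φ_tC]; exact kz_sq.1)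
    have h := (S.const hχ hO ⟨_, S.ker_le ho⟩ ho).1
    rwa [← mul_assoc, S.tC_sq, one_mul] at h
  symm
  calc _ = (Nat.card (Cen t) : ℂ)⁻¹ * ∑ x : Cen t, χ x *
        (4 * conj (S.F a1 x) + 6 * conj (S.F b1 x) + 2 * conj (S.F b2 x) -
          3 * conj (S.F a5 x) - 3 * conj (S.F a6 x)) := by
        simp only [classInner, Finset.mul_sum, ← Finset.sum_add_distrib, ← Finset.sum_sub_distrib]
        exact Finset.sum_congr rfl fun x _ => by ring
    _ = (Nat.card (Cen t) : ℂ)⁻¹ * ∑ x : Cen t, (if S.φ x = kz then 48 * χ t else 0) := by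
        congr 1
        refine Finset.sum_congr rfl fun x _ => ?_
        rw [key]
        split_ifs with h
        · rw [hc x h]; ring
        · ring
    _ = χ t := by
        rw [S.sum_eq (fun k => if k = kz then 48 * χ t else 0), Finset.sum_ite_eq', if_pos
          (Finset.mem_univ _), nsmul_eq_mul, S.card_cen]
        push_cast
        field_simp

theorem Setup.split_unique {q q' o o' : Cen t} (hq : q ∈ S.Q) (hq' : q' ∈ S.Q)
    (ho : o ∈ S.π.ker) (ho' : o' ∈ S.π.ker) (h : q * o = q' * o') : q = q' ∧ o = o' := by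
  have e : q'⁻¹ * q = o' * o⁻¹ := by
    rw [eq_mul_inv_iff_mul_eq, mul_assoc, inv_mul_eq_iff_eq_mul, h]
  have := S.Q_ker (mul_mem (inv_mem hq') hq) (e ▸ mul_mem ho' (inv_mem ho))
  have hqq : q = q' := (inv_mul_eq_one.mp this).symm
  exact ⟨hqq, by rw [hqq] at h; exact mul_left_cancel h⟩

/-- `P` is the product of `Q` and the kernel. -/
noncomputable def Setup.splitEquiv : S.Q × S.π.ker ≃ S.P :=
  Equiv.ofBijective (fun p => ⟨p.1 * p.2, mul_mem p.1.2.1 (by
    show q8 (S.φ p.2); rw [S.mem_ker_iff.mp p.2.2]; exact q8_one)⟩)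
    ⟨fun p p' h => by
      obtain ⟨h1, h2⟩ := S.split_unique p.1.2 p'.1.2 p.2.2 p'.2.2 (congrArg Subtype.val h)
      exact Prod.ext (Subtype.ext h1) (Subtype.ext h2),
    fun x => by
      obtain ⟨q, hq, o, ho, e⟩ := S.exists_Q x.2
      exact ⟨(⟨q, hq⟩, ⟨o, ho⟩), Subtype.ext e.symm⟩⟩

theorem Setup.card_Q : Nat.card S.Q = 8 := by
  classical
  have h := Nat.card_congr S.splitEquiv
  have h' : Nat.card S.P = 8 * Nat.card S.π.ker := by
    have h := S.sum_eq (fun k => if q8 k then (1 : ℕ) else 0)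
    rw [← Finset.card_filter, ← Fintype.card_subtype, ← Nat.card_eq_fintype_card,
      show (∑ k : Fin 48, if q8 k then (1 : ℕ) else 0) = 8 by decide +kernel, smul_eq_mul,
      mul_comm] at h
    exact h
  rw [Nat.card_prod, h'] at h
  exact Nat.eq_of_mul_eq_mul_right Nat.card_pos h

theorem Setup.eq_one_of_Q {q : Cen t} (hq : q ∈ S.Q) (h : S.φ q = k1) : q = 1 :=
  S.Q_ker hq (S.mem_ker_iff.mpr h)

theorem Setup.gsum_eq [Fintype S.Q] (χ : G → ℂ) (o : S.C0) :
    ∑ q : S.Q, χ (((q : Cen t) * (o : Cen t) : Cen t) : G) =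
      χ ((o : Cen t) : G) + χ ((tC t * o : Cen t) : G) + S.gsum χ o := by
  classical
  have h1 : ∑ q : S.Q, χ (((q : Cen t) * (o : Cen t) : Cen t) : G) =
      ∑ q : S.C0, if q ∈ S.Q0 then χ (((q : Cen t) * (o : Cen t) : Cen t) : G) else 0 := by
    rw [← Finset.sum_filter]
    exact (Finset.sum_bij (fun (q : S.C0) hq => (⟨q, (Finset.mem_filter.1 hq).2⟩ : S.Q))
      (fun _ _ => Finset.mem_univ _) (fun a _ b _ h => Subtype.ext (congrArg Subtype.val h :))
      (fun b _ => ⟨⟨b, S.Q_le b.2⟩, Finset.mem_filter.2 ⟨Finset.mem_univ _, b.2⟩, rfl⟩)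
      (fun _ _ => rfl)).symm
  rw [h1, Setup.gsum]
  have hne : (1 : S.C0) ≠ ⟨tC t, S.tC_mem⟩ := fun h =>
    S.ne_one (congrArg (fun z : S.C0 => ((z : Cen t) : G)) h).symm
  have e : ∀ q : S.C0, (if q ∈ S.Q0 then χ (((q : Cen t) * (o : Cen t) : Cen t) : G) else 0) =
      ((if q = 1 then χ ((o : Cen t) : G) else 0) +
        if q = ⟨tC t, S.tC_mem⟩ then χ ((tC t * o : Cen t) : G) else 0) +
      (if q ∈ S.Q0 ∧ ¬ (S.φ q = k1 ∨ S.φ q = kz) then χ ((q * o : S.C0) : Cen t) else 0) := by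
    intro q
    rcases eq_or_ne q 1 with rfl | hq1
    · simp [hne, S.φ_one, one_mem S.Q0]
    rcases eq_or_ne q ⟨tC t, S.tC_mem⟩ with rfl | hqt
    · simp [hq1, S.tC_Q, S.φ_tC]
    have : q ∈ S.Q0 → ¬ (S.φ q = k1 ∨ S.φ q = kz) := fun hQ h => by
      rcases h with h | h
      · exact hq1 (Subtype.ext (S.eq_one_of_Q hQ h))
      · exact hqt (Subtype.ext (S.kz_of_Q hQ h))
    by_cases hQ : q ∈ S.Q0
    · simp [hQ, hq1, hqt, this hQ]
    · simp [hQ, hq1, hqt]
  rw [Finset.sum_congr rfl fun q _ => e q, Finset.sum_add_distrib, Finset.sum_add_distrib,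
    Finset.sum_ite_eq', Finset.sum_ite_eq']
  simp

/-- The sum over the elements of order four. -/
theorem Setup.gsum_one {χ : G → ℂ} (hχ : IsClassFunction G χ) (hO : S.Orth χ) :
    S.gsum χ 1 = 6 * (classInner χ S.five.A5 + classInner χ S.five.A6) := by
  classical
  have := Fintype.ofFinite S.Q
  have := Fintype.ofFinite S.π.ker
  have := Fintype.ofFinite S.P
  show _ = 6 * (classInner χ (indFun (Cen t) (S.F a5)) + classInner χ (indFun (Cen t) (S.F a6)))
  rw [frobenius_reciprocity' _ (S.F a5) hχ, frobenius_reciprocity' _ (S.F a6) hχ]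
  let gf : Cen t → ℂ := fun x => if S.φ x = k1 ∨ S.φ x = kz then 0 else χ x
  have hP : ∑ x : Cen t, χ x * (conj (S.F a5 x) + conj (S.F a6 x)) =
      8 * ∑ x : S.P, gf x := by
    rw [Finset.mul_sum, ← Finset.sum_subtype (p := fun x => x ∈ S.P)
      (Finset.univ.filter fun x => q8 (S.φ x)) (fun x => by simp; rfl) (fun x => 8 * gf x),
      Finset.sum_filter]
    refine Finset.sum_congr rfl fun x _ => ?_
    rw [S.F_apply, S.F_apply, ← map_add, ← map_add, a56]
    by_cases h : q8 (S.φ x)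
    · by_cases h' : S.φ x = k1 ∨ S.φ x = kz
      · simp [gf, h, h']
      · simp [gf, h, h', mul_comm, map_ofNat]
    · simp [h]
  have hfib : ∀ o : S.π.ker, ∑ q : S.Q, gf ((q : Cen t) * o) = S.gsum χ 1 := by
    intro o
    rw [← (S.const hχ hO ⟨o, S.ker_le o.2⟩ o.2).2, Setup.gsum]
    have hφ : ∀ q : Cen t, S.φ (q * (o : Cen t)) = S.φ q := fun q => by
      rw [S.φ_mul, S.mem_ker_iff.mp o.2, show ∀ k, mul k k1 = k from (by decide +kernel)]
    have : ∑ q : S.Q, gf ((q : Cen t) * o) =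
        ∑ q : S.C0, if q ∈ S.Q0 then gf ((q : Cen t) * (o : Cen t)) else 0 := by
      rw [← Finset.sum_filter]
      exact (Finset.sum_bij (fun (q : S.C0) hq => (⟨q, (Finset.mem_filter.1 hq).2⟩ : S.Q))
        (fun _ _ => Finset.mem_univ _) (fun a _ b _ h => Subtype.ext (congrArg Subtype.val h :))
        (fun b _ => ⟨⟨b, S.Q_le b.2⟩, Finset.mem_filter.2 ⟨Finset.mem_univ _, b.2⟩, rfl⟩)
        (fun _ _ => rfl)).symm
    rw [this]
    refine Finset.sum_congr rfl fun q _ => ?_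
    simp only [gf, hφ]
    by_cases hQ : q ∈ S.Q0
    · by_cases h' : S.φ q = k1 ∨ S.φ q = kz
      · simp [hQ, h']
      · simp [hQ, h']
    · simp [hQ]
  have hsplit : ∑ x : S.P, gf x = (Nat.card S.π.ker : ℂ) * S.gsum χ 1 := by
    rw [← S.splitEquiv.sum_comp, Fintype.sum_prod_type, Finset.sum_comm,
      Finset.sum_congr rfl fun o _ => (show ∑ q : S.Q, gf (S.splitEquiv (q, o)) = _ from hfib o),
      Finset.sum_const, Finset.card_univ, nsmul_eq_mul, Nat.card_eq_fintype_card]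
  have h48 : classInner (fun h : Cen t => χ h) (S.F a5) + classInner (fun h : Cen t => χ h) (S.F a6) =
      (Nat.card (Cen t) : ℂ)⁻¹ * ∑ x : Cen t, χ x * (conj (S.F a5 x) + conj (S.F a6 x)) := by
    simp only [classInner, mul_add, Finset.sum_add_distrib]
  rw [h48, hP, hsplit, S.card_cen]
  have : (Nat.card S.π.ker : ℂ) ≠ 0 := Nat.cast_ne_zero.2 Nat.card_pos.ne'
  push_cast
  field_simp
  ring

/-- The congruence. -/
theorem Setup.congr_eight {χ : G → ℂ} (hg : IsGeneralizedCharacter G χ) (hO : S.Orth χ) :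
    ∃ n : ℤ, χ 1 + χ t + 6 * (classInner χ S.five.A5 + classInner χ S.five.A6) = 8 * (n : ℂ) := by
  classical
  have := Fintype.ofFinite S.Q
  obtain ⟨n, hn⟩ := classInner_gc_int
    (IsGeneralizedCharacter.restrict (IsGeneralizedCharacter.restrict hg (Cen t)) S.Q)
    (isGC_of_isCharacter (isCharacter_one (G := S.Q)))
  refine ⟨n, ?_⟩
  have hQ := S.gsum_eq χ 1
  simp only [OneMemClass.coe_one, mul_one] at hQ
  rw [← S.gsum_one (isGC_isClassFunction hg) hO, ← hn, classInner, S.card_Q]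
  simp only [Pi.one_apply, map_one, mul_one]
  rw [hQ]
  push_cast
  simp [tC]

/-- Pairs of conjugates of `t` with product `x`. -/
theorem Setup.count (x : Cen t) (hx : a5 (S.φ x) ≠ 0 ∨ a6 (S.φ x) ≠ 0) :
    Nat.card {p : G × G // IsConj t p.1 ∧ IsConj t p.2 ∧ p.1 * p.2 = (x : G)} =
      Nat.card S.π.ker * cnt (S.φ x) := by
  classical
  obtain ⟨hx2, hxD⟩ := supp_sq _ hx
  have hinv : ∀ p : G, IsConj t p → p * p = 1 ∧ p ≠ 1 := by
    intro p hp
    obtain ⟨c, rfl⟩ := isConj_iff.mp hp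
    refine ⟨?_, fun h => S.ne_one (by simpa using h)⟩
    rw [show c * t * c⁻¹ * (c * t * c⁻¹) = c * (t * t) * c⁻¹ by group, ← sq, ← S.ord,
      pow_orderOf_eq_one, mul_one, mul_inv_cancel]
  have hord : ∀ p : G, p * p = 1 → p ≠ 1 → IsConj t p := fun p h1 h2 =>
    S.fused p (orderOf_eq_prime (by rw [sq, h1]) h2)
  have hrefl : ∀ r : Cen t, isRefl (S.φ r) → r * r = 1 ∧ r ≠ 1 := by
    intro r hr
    have ho : r * r ∈ S.π.ker := S.mem_ker_iff.mpr (by rw [S.φ_mul]; exact hr.1)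
    refine ⟨S.eq_one_of_ker ho ?_, fun h => hr.2.1 (by rw [h, S.φ_one])⟩
    have h := S.inv r (r * r) ho (refl_eps _ hr)
    have e : r * r = (r * r)⁻¹ := by
      calc r * r = r * (r * r) * r⁻¹ := by group
        _ = _ := h
    exact mul_eq_one_iff_eq_inv.mpr e
  have key : ∀ p q : G, IsConj t p → IsConj t q → p * q = (x : G) →
      ∃ hp : p ∈ Cen t, isRefl (S.φ ⟨p, hp⟩) ∧ isRefl (mul (S.φ ⟨p, hp⟩) (S.φ x)) ∧
        q = p * x := by
    intro p q hp hq hpq
    obtain ⟨hp2, hp1⟩ := hinv p hp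
    obtain ⟨hq2, hq1⟩ := hinv q hq
    have hq' : q = p * x := by rw [← hpq, ← mul_assoc, hp2, one_mul]
    have hqinv : q⁻¹ = q := inv_eq_of_mul_eq_one_right hq2
    obtain ⟨n, hn⟩ := S.pow_eq_t x hxD
    have hn' : (x : G) ^ n = t := by simpa [tC] using congrArg Subtype.val hn
    have hcx : p * (x : G) * p⁻¹ = (x : G)⁻¹ := by
      rw [← hpq, mul_inv_rev, hqinv, ← mul_assoc, hp2, one_mul]
    have htt : t⁻¹ = t := inv_eq_of_mul_eq_one_right (by rw [← sq, ← S.ord, pow_orderOf_eq_one])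
    have hpC : p ∈ Cen t := by
      have h := congrArg (· ^ n) hcx
      simp only [conj_pow, inv_pow, hn', htt] at h
      exact mem_cent_iff.mpr (mul_inv_eq_iff_eq_mul.mp h)
    let pC : Cen t := ⟨p, hpC⟩
    have hpC2 : pC * pC = 1 := Subtype.ext hp2
    have hqC2 : pC * x * (pC * x) = 1 := Subtype.ext (by
      show p * x * (p * x) = 1
      rw [← hq', hq2])
    have main : ∀ r : Cen t, r * r = 1 → r ≠ 1 → r ≠ tC t → isRefl (S.φ r) := by
      intro r h1 h2 h3
      refine ⟨by rw [← S.φ_mul, h1, S.φ_one], fun e => h2 (S.eq_one_of_ker (S.mem_ker_iff.mpr e) h1),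
        fun e => h3 (S.eq_tC e h1)⟩
    have notsq : x * x ≠ 1 := fun e => hx2 (by rw [← S.φ_mul, e, S.φ_one])
    have tcase : ∀ r : Cen t, r * r = 1 → (r * x) * (r * x) = 1 → r = tC t → False := by
      intro r h1 h2 h3
      subst h3
      apply notsq
      calc x * x = x * (tC t * tC t) * x := by rw [S.tC_sq, mul_one]
        _ = (x * tC t) * (tC t * x) := by group
        _ = 1 := by rw [S.tC_comm x]; exact h2
    refine ⟨hpC, main pC hpC2 (fun e => hp1 (congrArg Subtype.val e))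
      (tcase pC hpC2 hqC2), ?_, hq'⟩
    rw [← S.φ_mul]
    refine main (pC * x) hqC2 (fun e => hq1 (hq'.trans (congrArg Subtype.val e))) fun e => ?_
    apply notsq
    have hp' : pC = tC t * x⁻¹ := by rw [← e]; group
    have h := hpC2
    rw [hp'] at h
    calc x * x = x * (tC t * tC t) * x := by rw [S.tC_sq, mul_one]
      _ = (x * tC t) * (tC t * x) := by group
      _ = (tC t * x) * (tC t * x) := by rw [S.tC_comm x]
      _ = ((tC t * x⁻¹) * (tC t * x⁻¹))⁻¹ := by
          rw [mul_inv_rev, mul_inv_rev, inv_inv, inv_eq_of_mul_eq_one_right S.tC_sq,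
            S.tC_comm x]
      _ = 1 := by rw [h, inv_one]
  let T := {p : Cen t // isRefl (S.φ p) ∧ isRefl (mul (S.φ p) (S.φ x))}
  have e : Nat.card {p : G × G // IsConj t p.1 ∧ IsConj t p.2 ∧ p.1 * p.2 = (x : G)} = Nat.card T := by
    refine Nat.card_congr
      { toFun := fun p => ⟨⟨p.1.1, (key _ _ p.2.1 p.2.2.1 p.2.2.2).1⟩,
          (key _ _ p.2.1 p.2.2.1 p.2.2.2).2.1, (key _ _ p.2.1 p.2.2.1 p.2.2.2).2.2.1⟩
        invFun := fun i => ⟨((i.1 : G), (i.1 : G) * x), ?_, ?_, ?_⟩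
        left_inv := ?_
        right_inv := ?_ }
    · obtain ⟨h1, h2⟩ := hrefl _ i.2.1
      exact hord _ (congrArg Subtype.val h1) fun h => h2 (Subtype.ext h)
    · obtain ⟨h1, h2⟩ := hrefl (i.1 * x) (by rw [S.φ_mul]; exact i.2.2)
      exact hord _ (congrArg Subtype.val h1) fun h => h2 (Subtype.ext h)
    · have h := congrArg Subtype.val (hrefl _ i.2.1).1
      simp only [Subgroup.coe_mul, OneMemClass.coe_one] at h
      rw [← mul_assoc, h, one_mul]
    · rintro ⟨⟨p, q⟩, hp, hq, hpq⟩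
      obtain ⟨_, _, _, hq'⟩ := key p q hp hq hpq
      simp [hq']
    · rintro ⟨i, hi⟩
      simp
  rw [e, Nat.card_eq_fintype_card (α := T), Fintype.card_subtype, Finset.card_filter,
    S.sum_eq (fun k => if isRefl k ∧ isRefl (mul k (S.φ x)) then (1 : ℕ) else 0), smul_eq_mul,
    ← Finset.card_filter, cnt]

theorem Setup.L_ind [Fintype (IrrCharacter G)] (a : Fin 48 → ZS)
    (hN : ∀ k : Fin 48, a k ≠ 0 → a5 k ≠ 0 ∨ a6 k ≠ 0) (hsum : ∑ i, a i * (cnt i : ZS) = 96) :
    L t (indFun (Cen t) (S.F a)) = 96 * (Nat.card S.π.ker : ℂ) * Nat.card S.π.ker *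
      (Nat.card G : ℂ) / ((Nat.card {x : G // IsConj t x} : ℂ) ^ 2 * Nat.card (Cen t)) := by
  set K : ℂ := (Nat.card {x : G // IsConj t x} : ℂ)
  have hK : K ≠ 0 := by
    have : Nonempty {x : G // IsConj t x} := ⟨⟨t, IsConj.refl t⟩⟩
    exact Nat.cast_ne_zero.2 Nat.card_pos.ne'
  let s : Cen t → ℂ := fun x => ∑ χ : IrrCharacter G,
    (χ : G → ℂ) t * (χ : G → ℂ) t * conj ((χ : G → ℂ) x) / (χ : G → ℂ) 1
  have h1 : L t (indFun (Cen t) (S.F a)) = (Nat.card (Cen t) : ℂ)⁻¹ * ∑ x : Cen t, S.F a x * s x := by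
    rw [L, Finset.sum_congr rfl fun (χ : IrrCharacter G) _ => by
      rw [frobenius_reciprocity (Cen t) (S.F a) (IsIrrCharacter.isClassFunction χ.2)]]
    simp only [classInner, Finset.mul_sum, Finset.sum_mul, s]
    rw [Finset.sum_comm]
    refine Finset.sum_congr rfl fun x _ => Finset.sum_congr rfl fun χ _ => ?_
    ring
  have h2 : ∀ x : Cen t, S.F a x * s x = ι (a (S.φ x) * (cnt (S.φ x) : ZS)) *
      ((Nat.card S.π.ker : ℂ) * Nat.card G / (K * K)) := by
    intro x
    by_cases h0 : a (S.φ x) = 0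
    · rw [S.F_apply, h0, map_zero, zero_mul, zero_mul, map_zero, zero_mul]
    · have := class_mult_formula t t (x : G)
      rw [S.count x (hN _ h0), Nat.cast_mul] at this
      rw [map_mul, map_natCast, S.F_apply]
      have this' : (Nat.card S.π.ker : ℂ) * cnt (S.φ x) = K * K / Nat.card G * s x := this
      have hg : (Nat.card G : ℂ) ≠ 0 := Nat.cast_ne_zero.2 Nat.card_pos.ne'
      have e : s x = (Nat.card S.π.ker : ℂ) * cnt (S.φ x) * Nat.card G / (K * K) := by
        rw [this']; field_simp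
      rw [e]; ring
  rw [h1, Finset.sum_congr rfl fun x _ => h2 x, ← Finset.sum_mul,
    S.sum_eq (fun i => ι (a i * (cnt i : ZS))), ← map_sum, hsum, map_ofNat, nsmul_eq_mul]
  field_simp

theorem degree_dichotomy (hker : ∀ χ : G → ℂ, IsIrrCharacter G χ → χ ≠ 1 → χ t ≠ χ 1) :
    ∃ χ : G → ℂ, IsSignedIrr G χ ∧ classInner χ 1 = 0 ∧ S.Orth χ ∧
      ∃ d : ℤ, χ 1 = d ∧ d.natAbs < 16 := by
  classical
  have : Fintype (IrrCharacter G) := Fintype.ofFinite _
  obtain ⟨R, Y, U, V, pR, pY, pU, pV, hA5, hA6⟩ := S.five.decompose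
  obtain ⟨oR', oY', oU', oV'⟩ := S.orth_constituents pR pY pU pV hA5 hA6
  obtain ⟨sR, oR, rA1, rB1, rB2, rA5, rA6⟩ := pR
  obtain ⟨sY, oY, yA1, yB1, yB2, yA5, yA6⟩ := pY
  obtain ⟨sU, oU, uA1, uB1, uB2, uA5, uA6⟩ := pU
  obtain ⟨sV, oV, vA1, vB1, vB2, vA5, vA6⟩ := pV
  have cf : ∀ {X : G → ℂ}, IsSignedIrr G X → IsClassFunction G X := fun h =>
    isGC_isClassFunction (isGC_signed h)
  have vR : R t = 2 := by rw [S.value_t (cf sR) oR', rA1, rB1, rB2, rA5, rA6]; norm_num
  have vY : Y t = -3 := by rw [S.value_t (cf sY) oY', yA1, yB1, yB2, yA5, yA6]; norm_num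
  have vU : U t = 1 := by rw [S.value_t (cf sU) oU', uA1, uB1, uB2, uA5, uA6]; norm_num
  have vV : V t = -3 := by rw [S.value_t (cf sV) oV', vA1, vB1, vB2, vA5, vA6]; norm_num
  obtain ⟨D, hD0, hD⟩ := signed_degree sR
  obtain ⟨y, hy0, hy⟩ := signed_degree sY
  obtain ⟨u, hu0, hu⟩ := signed_degree sU
  obtain ⟨v, hv0, hv⟩ := signed_degree sV
  have hD2 : D ≠ 2 := fun e => signed_ne_at_t hker sR oR (by rw [vR, hD, e]; norm_num)
  have hu1 : u ≠ 1 := fun e => signed_ne_at_t hker sU oU (by rw [vU, hu, e]; norm_num)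
  have hyD : y = -1 - D := by
    have h := congrFun hA5 1
    rw [S.five.zA5] at h
    simp only [Pi.add_apply, Pi.one_apply, hD, hy] at h
    refine int_of_cast ?_
    push_cast; linear_combination -h
  have hvD : v = -D - u := by
    have h := congrFun hA6 1
    rw [S.five.zA6] at h
    simp only [Pi.add_apply, hD, hu, hv] at h
    refine int_of_cast ?_
    push_cast; linear_combination -h
  obtain ⟨n, hn⟩ : ∃ n : ℤ, D + 14 = 8 * n := by
    obtain ⟨n, hn⟩ := S.congr_eight (isGC_signed sR) oR'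
    refine ⟨n, int_of_cast ?_⟩
    rw [hD, vR, rA5, rA6] at hn
    push_cast at hn ⊢; linear_combination hn
  have hL5 : L t S.five.A5 = 1 + 4 / (D : ℂ) + 9 / (y : ℂ) := by
    rw [hA5, L_add, L_add, L_signed signed_one, L_signed sR, L_signed sY, vR, vY, hD, hy]
    simp; norm_num
  have hL6 : L t S.five.A6 = 4 / (D : ℂ) + 1 / (u : ℂ) + 9 / (v : ℂ) := by
    rw [hA6, L_add, L_add, L_signed sR, L_signed sU, L_signed sV, vR, vU, vV, hD, hu, hv]
    norm_num
  have hDc : (D : ℂ) ≠ 0 := Int.cast_ne_zero.mpr hD0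
  have hyc : (y : ℂ) ≠ 0 := Int.cast_ne_zero.mpr hy0
  have huc : (u : ℂ) ≠ 0 := Int.cast_ne_zero.mpr hu0
  have hvc : (v : ℂ) ≠ 0 := Int.cast_ne_zero.mpr hv0
  have he : 1 + 9 / (y : ℂ) = 1 / (u : ℂ) + 9 / (v : ℂ) := by
    have h5 := S.L_ind a5 (fun _ h => Or.inl h) sum_cnt.1
    have h6 := S.L_ind a6 (fun _ h => Or.inr h) sum_cnt.2
    change L t S.five.A5 = _ at h5
    change L t S.five.A6 = _ at h6
    rw [← h6, hL5, hL6] at h5
    linear_combination h5
  field_simp at he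
  have hE : (y + 9) * u * v = (v + 9 * u) * y := int_of_cast (by push_cast; linear_combination he)
  rw [hyD, hvD] at hE
  have hfac : (u - 1) * (u * (D - 8) + D * (D + 1)) = 0 := by linear_combination hE
  have hu2 : u * (D - 8) + D * (D + 1) = 0 :=
    (mul_eq_zero.mp hfac).resolve_left (sub_ne_zero.mpr hu1)
  have hdvd : (D - 8) ∣ 72 := ⟨-(u + D + 9), by linear_combination hu2⟩
  have hle : (D - 8).natAbs ∣ 72 := Int.natCast_dvd_natCast.mp (by simpa using hdvd)
  have hmem : (D - 8).natAbs ∈ Nat.divisors 72 := Nat.mem_divisors.mpr ⟨hle, by norm_num⟩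
  rw [show Nat.divisors 72 = {1, 2, 3, 4, 6, 8, 9, 12, 18, 24, 36, 72} by decide] at hmem
  simp only [Finset.mem_insert, Finset.mem_singleton] at hmem
  have hD' : D = 10 ∨ D = 26 := by omega
  rcases hD' with rfl | rfl
  · exact ⟨R, sR, oR, oR', 10, hD, by norm_num⟩
  · refine ⟨V, sV, oV, oV', v, hv, ?_⟩
    have : v = 13 := by omega
    subst this; norm_num

/-- A constituent of degree below sixteen contains the kernel in its kernel. -/
theorem Setup.ker_of_small {f : G → ℂ} (hf : IsIrrCharacter G f) (hO : S.Orth f) {d : ℕ}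
    (hd : f 1 = d) (h16 : d < 16) (o : Cen t) (ho : o ∈ S.π.ker) : f o = f 1 := by
  classical
  have := Fintype.ofFinite S.π.ker
  have := Fintype.ofFinite S.Q
  have := Fintype.ofFinite S.P
  have : Fintype (IrrCharacter S.π.ker) := Fintype.ofFinite _
  have hfc := IsCharacter.isClassFunction (IsIrrCharacter.isCharacter hf)
  set f0 : S.π.ker → ℂ := fun x => f ((x : Cen t) : G)
  have hf0 : IsCharacter S.π.ker f0 :=
    IsCharacter.restrict (IsCharacter.restrict (IsIrrCharacter.isCharacter hf) (Cen t)) _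
  let incl : S.π.ker →* S.C0 := Subgroup.inclusion S.ker_le
  -- multiplicities
  have hM : ∀ l : S.C0 →* ℂˣ, S.Good l →
      ∑ x : S.π.ker, f0 x * conj (l (incl x) : ℂ) = 0 := by
    intro l hl
    set M := ∑ x : S.π.ker, f0 x * conj (l (incl x) : ℂ)
    let θ : S.π.ker →* ℂ := (Units.coeHom ℂ).comp (l.comp incl)
    let θ' : S.π.ker →* ℂ := (Units.coeHom ℂ).comp (l⁻¹.comp incl)
    obtain ⟨m, hm, hmφ⟩ := IsCharacter.decompose hf0
    let c : IrrCharacter S.π.ker := ⟨_, isIrrCharacter_of_hom θ⟩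
    let c' : IrrCharacter S.π.ker := ⟨_, isIrrCharacter_of_hom θ'⟩
    have hk : classInner f0 (c : S.π.ker → ℂ) = (Nat.card S.π.ker : ℂ)⁻¹ * M := rfl
    have hcc : c ≠ c' := by
      intro h
      obtain ⟨o1, ho1, h1⟩ := hl.1
      have e := congrFun (congrArg Subtype.val h) ⟨o1, ho1⟩
      have e' : l o1 = (l o1)⁻¹ := Units.ext e
      apply h1
      rw [eq_inv_iff_mul_eq_one, ← sq] at e'
      obtain ⟨k, hk⟩ := S.odd
      have hp : (l o1) ^ Nat.card S.π.ker = 1 := by
        rw [← map_pow, show o1 ^ Nat.card S.π.ker = 1 from Subtype.ext (by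
          simpa using congrArg Subtype.val (pow_card_eq_one' (x := (⟨_, ho1⟩ : S.π.ker)))),
          map_one]
      rwa [hk, pow_succ, pow_mul, e', one_pow, one_mul] at hp
    obtain ⟨r, hr⟩ := S.φ_surj (idx (1, 0, 0, 2))
    have hre : eps (S.φ r) ≠ 1 := by rw [hr]; exact refl_eps _ refl_exists
    have hsym : classInner f0 (c' : S.π.ker → ℂ) = classInner f0 (c : S.π.ker → ℂ) := by
      rw [classInner, classInner]
      congr 1
      refine Fintype.sum_equiv (Equiv.inv S.π.ker) _ _ fun x => ?_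
      have e1 : f0 x⁻¹ = f0 x := by
        have h := hfc ((x : Cen t) : G) (r : G)
        have h' : ((r * (x : Cen t) * r⁻¹ : Cen t) : G) = ((x : Cen t)⁻¹ : Cen t) :=
          congrArg Subtype.val (S.inv r x x.2 hre)
        simp only [Subgroup.coe_mul, InvMemClass.coe_inv] at h'
        rw [h'] at h
        simpa [f0] using h
      show f0 x * conj (((l (incl x))⁻¹ : ℂˣ) : ℂ) = f0 x⁻¹ * conj ((l (incl x⁻¹) : ℂˣ) : ℂ)
      rw [e1, map_inv incl, map_inv l]
    -- divisibility by eight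
    obtain ⟨j, hj⟩ := classInner_gc_int
      (IsGeneralizedCharacter.restrict (IsGeneralizedCharacter.restrict
        (isGC_of_irr hf) (Cen t)) S.P)
      (isGC_of_isCharacter (isCharacter_of_hom
        (((Units.coeHom ℂ).comp l).comp (Subgroup.inclusion S.P_le))))
    have hP : Nat.card S.P = 8 * Nat.card S.π.ker := by
      rw [← Nat.card_congr S.splitEquiv, Nat.card_prod, S.card_Q]
    have h8 : (m c : ℂ) = 8 * (j : ℂ) := by
      rw [← hmφ c, hk, ← hj, classInner, hP, ← S.splitEquiv.sum_comp, Fintype.sum_prod_type,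
        Finset.sum_comm]
      have e : ∀ x : S.π.ker, ∑ q : S.Q, f ((S.splitEquiv (q, x) : Cen t) : G) *
          conj ((l (Subgroup.inclusion S.P_le (S.splitEquiv (q, x))) : ℂˣ) : ℂ) =
          (f0 x + (f t + S.gsum f 1)) * conj (l (incl x) : ℂ) := by
        intro x
        have hl' : ∀ q : S.Q, l (Subgroup.inclusion S.P_le (S.splitEquiv (q, x))) = l (incl x) := by
          intro q
          rw [show Subgroup.inclusion S.P_le (S.splitEquiv (q, x)) =
            (⟨q, S.Q_le q.2⟩ : S.C0) * incl x from Subtype.ext rfl, map_mul,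
            hl.2 _ (show (⟨q, S.Q_le q.2⟩ : S.C0) ∈ S.Q0 from q.2), one_mul]
        simp only [hl', ← Finset.sum_mul]
        congr 1
        rw [show (∑ q : S.Q, f ((S.splitEquiv (q, x) : Cen t) : G)) =
          ∑ q : S.Q, f (((q : Cen t) * ((incl x : S.C0) : Cen t) : Cen t) : G) from rfl,
          S.gsum_eq, (S.const hfc hO (incl x) x.2).1, (S.const hfc hO (incl x) x.2).2, add_assoc]
        rfl
      change _ = 8 * ((((8 * Nat.card S.π.ker : ℕ) : ℂ))⁻¹ * ∑ x : S.π.ker, ∑ q : S.Q,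
        f ((S.splitEquiv (q, x) : Cen t) : G) *
          conj ((l (Subgroup.inclusion S.P_le (S.splitEquiv (q, x))) : ℂˣ) : ℂ))
      rw [Finset.sum_congr rfl fun x _ => e x]
      simp only [add_mul, Finset.sum_add_distrib, ← Finset.mul_sum]
      have hz : ∑ x : S.π.ker, conj (l (incl x) : ℂ) = 0 := by
        have h := classInner_irr_of_ne isIrrCharacter_one c.2 (fun h => ?_)
        · rw [classInner] at h
          have := (mul_eq_zero.mp h).resolve_left
            (inv_ne_zero (Nat.cast_ne_zero.2 Nat.card_pos.ne'))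
          simpa [c, θ] using this
        · obtain ⟨o1, ho1, h1⟩ := hl.1
          exact h1 (Units.ext (congrFun h ⟨o1, ho1⟩).symm)
      rw [hz, mul_zero, mul_zero, add_zero, add_zero]
      push_cast
      have : (Nat.card S.π.ker : ℂ) ≠ 0 := Nat.cast_ne_zero.2 Nat.card_pos.ne'
      field_simp
      rfl
    have h8' : (m c : ℤ) = 8 * j := int_of_cast (by push_cast; exact h8)
    have hc' : m c' = m c := by
      have h := hsym
      rw [hmφ, hmφ] at h
      exact_mod_cast h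
    have hdeg : (d : ℕ) = ∑ φ : IrrCharacter S.π.ker, m φ * Classical.choose
        (IsIrrCharacter.exists_degree φ.2) := by
      have h := congrFun hm 1
      rw [show f0 1 = (d : ℂ) by simp [f0, hd]] at h
      simp only [Finset.sum_apply, Pi.smul_apply, smul_eq_mul] at h
      rw [Finset.sum_congr rfl fun φ _ => by
        rw [(Classical.choose_spec (IsIrrCharacter.exists_degree φ.2)).2]] at h
      exact_mod_cast h
    have hsum : ∑ φ ∈ ({c, c'} : Finset (IrrCharacter S.π.ker)), m φ * 1 ≤ d := by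
      rw [hdeg]
      refine (Finset.sum_le_sum fun φ _ => Nat.mul_le_mul_left _ ?_).trans
        (Finset.sum_le_sum_of_subset (Finset.subset_univ _))
      exact (Classical.choose_spec (IsIrrCharacter.exists_degree φ.2)).1
    rw [Finset.sum_pair hcc, hc', mul_one] at hsum
    have h0 : m c = 0 := by omega
    have := hmφ c
    rw [hk, h0, Nat.cast_zero] at this
    exact (mul_eq_zero.mp this).resolve_left (inv_ne_zero (Nat.cast_ne_zero.2 Nat.card_pos.ne'))
  have h := S.invariant (fun x : S.C0 => if (x : Cen t) ∈ S.π.ker then f ((x : Cen t) : G) else 0)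
    (fun l hn hq => by
      refine Eq.trans ?_ (hM l ⟨hn, hq⟩)
      simp only [ite_mul, zero_mul]
      rw [← Finset.sum_filter]
      exact Finset.sum_bij (fun (x : S.C0) hx => (⟨x, (Finset.mem_filter.1 hx).2⟩ : S.π.ker))
        (fun _ _ => Finset.mem_univ _) (fun a _ b _ h => Subtype.ext (congrArg Subtype.val h :))
        (fun b _ => ⟨incl b, Finset.mem_filter.2 ⟨Finset.mem_univ _, b.2⟩, rfl⟩)
        (fun _ _ => rfl))
    1 ⟨o, S.ker_le ho⟩ ho
  simp only [mul_one] at h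
  have e : ∀ o' : S.C0, (o' : Cen t) ∈ S.π.ker → ∑ q : S.C0, (if q ∈ S.Q0 then
      (if ((q * o' : S.C0) : Cen t) ∈ S.π.ker then f (((q * o' : S.C0) : Cen t) : G) else 0) else 0) =
      f ((o' : Cen t) : G) := by
    intro o' ho'
    rw [Finset.sum_eq_single (1 : S.C0)]
    · simp [ho', one_mem S.Q0]
    · intro q _ hq
      split_ifs with hQ hk
      · refine absurd (Subtype.ext (S.Q_ker hQ ?_)) hq
        have := mul_mem hk (inv_mem ho')
        simpa [mul_assoc] using this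
      · rfl
      · rfl
    · simp
  have h1 := e 1 (one_mem _)
  simp only [mul_one] at h1
  rw [e ⟨o, S.ker_le ho⟩ ho, h1] at h
  simpa using h

/-- The kernel is trivial. -/
theorem Setup.ker_eq_bot [IsSimpleGroup G] : S.π.ker = ⊥ := by
  have hker : ∀ χ : G → ℂ, IsIrrCharacter G χ → χ ≠ 1 → χ t ≠ χ 1 := fun χ hχ h1 =>
    ne_at_of_simple S.ne_one hχ h1
  obtain ⟨χ, sχ, oχ, hO, d, hd, hd16⟩ := degree_dichotomy S hker
  rw [eq_bot_iff]
  intro o ho
  rw [Subgroup.mem_bot]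
  by_contra hne
  have hne' : (o : G) ≠ 1 := fun h => hne (Subtype.ext h)
  have fin : ∀ (f : G → ℂ), IsIrrCharacter G f → classInner f 1 = 0 → S.Orth f →
      ∀ k : ℤ, f 1 = k → k.natAbs < 16 → False := by
    intro f hf h1 hOf k hk hk16
    obtain ⟨n, hn, he⟩ := IsIrrCharacter.exists_degree hf
    have : k = n := int_of_cast (by rw [← hk, he]; norm_num)
    subst this
    refine ne_at_of_simple hne' hf (fun e => ?_) (S.ker_of_small hf hOf he (by simpa using hk16) o ho)
    rw [e, one_norm] at h1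
    exact one_ne_zero h1
  rcases sχ with h | h
  · exact fin χ h oχ hO d hd hd16
  · refine fin (-χ) h (by rw [classInner_neg_left, oχ, neg_zero])
      (fun l hl => ⟨by rw [classInner_neg_left, (hO l hl).1, neg_zero],
        by rw [classInner_neg_left, (hO l hl).2, neg_zero]⟩) (-d) ?_ (by simpa using hd16)
    simp [hd]

include S in
/-- The centralizer is `GL(2,3)`. -/
theorem Setup.centralizer_equiv [IsSimpleGroup G] :
    Nonempty (Cen t ≃* GL (Fin 2) (ZMod 3)) :=
  ⟨MulEquiv.ofBijective S.π ⟨(MonoidHom.ker_eq_bot_iff _).mp S.ker_eq_bot, S.surj⟩⟩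

end Cfsg.Agent.GL23Core
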